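import Cfsg.Agent.Lib.Char.Orth

/-!
# Irreducible characters are positive definite functions

`gram_nonneg`: for real weights `c` and points `x`, the real part of `∑ c i * c j * χ ((x i)⁻¹ * x j)` is
nonnegative; `two_block_nonneg` is the case of two constant weights on two families of points.
-/

set_option autoImplicit false

namespace Cfsg.Agent.ExtremeClosed

open scoped ComplexConjugate

variable {G : Type*} [Group G]

/-- The convolution of an irreducible character with itself is a multiple of itself. -/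
theorem sum_inv_mul_mul [Fintype G] {χ : G → ℂ} (hχ : IsIrrCharacter G χ) (g : G) :
    ∑ v : G, χ v⁻¹ * χ (v * g) = ((Nat.card G : ℂ) / χ 1) * χ g := by
  obtain ⟨n, ρ, hirr, rfl⟩ := hχ
  have hχ : IsIrrCharacter G ρ.character := ⟨n, ρ, hirr, rfl⟩
  have hconj : ∀ v, ρ.character v⁻¹ = conj (ρ.character v) :=
    fun v => Char.IsCharacter.apply_inv (Char.IsIrrCharacter.isCharacter hχ) v
  have hf : IsClassFunction G fun v => ρ.character v⁻¹ := fun a h => by
    show ρ.character (h * a * h⁻¹)⁻¹ = ρ.character a⁻¹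
    rw [show (h * a * h⁻¹)⁻¹ = h * a⁻¹ * h⁻¹ by group, Representation.char_conj]
  have h := Char.groupSumOp_eq_smul ρ hf
  have h2 := congrArg (fun T : Module.End ℂ (Fin n → ℂ) => LinearMap.trace ℂ (Fin n → ℂ) (T * ρ g)) h
  have hl : (LinearMap.id : Module.End ℂ (Fin n → ℂ)) = 1 := rfl
  simp only [Char.groupSumOp, hl, Finset.sum_mul, map_sum, smul_mul_assoc, map_smul, smul_eq_mul,
    ← map_mul, one_mul] at h2
  have horth : (∑ v : G, ρ.character v⁻¹ * ρ.character v) = (Nat.card G : ℂ) := by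
    have h3 := Char.card_mul_classInner ρ.character ρ.character
    rw [Char.classInner_irr_self hχ, mul_one] at h3
    rw [h3]
    exact Finset.sum_congr rfl fun v _ => by rw [hconj, mul_comm]
  rw [horth] at h2
  have h1 : ρ.character 1 = (Module.finrank ℂ (Fin n → ℂ) : ℂ) := Representation.char_one ρ
  rw [h1]
  exact h2

theorem gram_identity [Fintype G] {χ : G → ℂ} (hχ : IsIrrCharacter G χ) {ι : Type*} [Fintype ι]
    (c : ι → ℝ) (x : ι → G) :
    ((Nat.card G : ℂ) / χ 1) * ∑ i, ∑ j, (c i : ℂ) * c j * χ ((x i)⁻¹ * x j) =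
      ((∑ v : G, Complex.normSq (∑ j, (c j : ℂ) * χ (v * x j)) : ℝ) : ℂ) := by
  have hconj : ∀ v, χ v⁻¹ = conj (χ v) := fun v => Char.IsCharacter.apply_inv (Char.IsIrrCharacter.isCharacter hχ) v
  push_cast
  simp only [Complex.normSq_eq_conj_mul_self, map_sum, map_mul, Complex.conj_ofReal, Finset.sum_mul, Finset.mul_sum]
  rw [Finset.sum_comm]
  conv_rhs => rw [Finset.sum_comm]
  refine Finset.sum_congr rfl fun j _ => ?_
  conv_rhs => rw [Finset.sum_comm]
  refine Finset.sum_congr rfl fun i _ => ?_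
  rw [show (Nat.card G : ℂ) / χ 1 * ((c i : ℂ) * c j * χ ((x i)⁻¹ * x j))
      = (c i : ℂ) * c j * ((Nat.card G : ℂ) / χ 1 * χ ((x i)⁻¹ * x j)) by ring,
    ← sum_inv_mul_mul hχ, Finset.mul_sum]
  refine Fintype.sum_equiv (Equiv.mulRight (x i)⁻¹) _ _ fun v => ?_
  simp only [Equiv.coe_mulRight]
  rw [← hconj, show (v * (x i)⁻¹ * x i)⁻¹ = v⁻¹ by group, mul_assoc v]
  ring

theorem gram_nonneg [Finite G] {χ : G → ℂ} (hχ : IsIrrCharacter G χ) {ι : Type*} [Fintype ι]
    (c : ι → ℝ) (x : ι → G) :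
    0 ≤ (∑ i, ∑ j, (c i : ℂ) * c j * χ ((x i)⁻¹ * x j)).re := by
  have := Fintype.ofFinite G
  obtain ⟨d, hd1, hd⟩ := Char.IsIrrCharacter.exists_degree hχ
  have h := congrArg Complex.re (gram_identity hχ c x)
  rw [Complex.ofReal_re, hd] at h
  have hd0 : (0 : ℝ) < d := by exact_mod_cast hd1
  have hs : ((Nat.card G : ℂ) / (d : ℂ)) = (((Nat.card G : ℝ) / d : ℝ) : ℂ) := by push_cast; rfl
  rw [hs, Complex.re_ofReal_mul] at h
  have hc : (0 : ℝ) < (Nat.card G : ℝ) / d :=
    div_pos (by exact_mod_cast Nat.card_pos) hd0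
  have hnn : 0 ≤ ∑ v : G, Complex.normSq (∑ j, (c j : ℂ) * χ (v * x j)) :=
    Finset.sum_nonneg fun v _ => Complex.normSq_nonneg _
  rw [← h] at hnn
  exact nonneg_of_mul_nonneg_right hnn hc

/-- Two families of points with the constant weights `a` and `b`. -/
theorem two_block_nonneg [Finite G] {χ : G → ℂ} (hχ : IsIrrCharacter G χ) {α β : Type*} [Fintype α]
    [Fintype β] (a b : ℝ) (x : α → G) (y : β → G) :
    0 ≤ a * a * (∑ i, ∑ j, χ ((x i)⁻¹ * x j)).re + a * b * (∑ i, ∑ j, χ ((x i)⁻¹ * y j)).re +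
      a * b * (∑ i, ∑ j, χ ((y i)⁻¹ * x j)).re + b * b * (∑ i, ∑ j, χ ((y i)⁻¹ * y j)).re := by
  have h := gram_nonneg hχ (Sum.elim (fun _ => a) fun _ => b) (Sum.elim x y)
  simp only [Fintype.sum_sum_type, Sum.elim_inl, Sum.elim_inr, Finset.sum_add_distrib,
    ← Finset.mul_sum, Complex.add_re, ← Complex.ofReal_mul, Complex.re_ofReal_mul] at h
  linarith

end Cfsg.Agent.ExtremeClosed
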