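import Cfsg.Agent.Lib.ExtremeClosed.Pairs
import Cfsg.Agent.Lib.ExtremeClosed.Positive
import Cfsg.Agent.Lib.CharApp.Schur
import Cfsg.Agent.Lib.CharApp.Unitary
import Cfsg.Agent.Lib.SecondMain.Principal
import Cfsg.Agent.Lib.ZStar.SecondPrincipal

/-!
# The principal block inequality for extremely closed abelian p-subgroups

Let `H` be abelian extremely closed of order at least 3, with normal closure `G`, and suppose that in the
centralizer of every nontrivial element of `H` the normal closure of `H` lies in `H O_{p'}`. Write, for `χ` in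
the principal block, `d = χ 1` and `m = ∑_{h ∈ H} χ h`. Then `(|H| - 1) m ≤ |H| d` for `χ ≠ 1` (positivity
of `χ`), `∑ (m - d)² ((|H| - 1) d - m) / d = 0` (class multiplication and block orthogonality), and
`∑ (m - d)² ≥ |H| (|H| + 1)` as soon as `H` is not central in a Sylow subgroup equal to it with trivial
automiser. These are incompatible (`not_fused`).
-/

set_option autoImplicit false
set_option linter.style.haveILetI false
set_option linter.unusedSectionVars false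

namespace Cfsg.Agent.ExtremeClosed

open scoped ComplexConjugate Classical
open Finset

variable {G : Type*} [Group G] [Finite G] {p : ℕ} [Fact p.Prime] {M : Ideal AlgInt} {H : Subgroup G}

/-- The degree as a real number. -/
noncomputable def deg (χ : IrrCharacter G) : ℝ := ((χ : G → ℂ) 1).re

/-- The sum of `χ` over `H`, as a real number. -/
noncomputable def msum [Fintype H] (χ : IrrCharacter G) : ℝ := (∑ h : H, (χ : G → ℂ) h).re

theorem deg_eq (χ : IrrCharacter G) : (χ : G → ℂ) 1 = (deg χ : ℂ) := by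
  obtain ⟨d, -, hd⟩ := Char.IsIrrCharacter.exists_degree χ.2
  simp [deg, hd]

theorem deg_pos (χ : IrrCharacter G) : 0 < deg χ := by
  obtain ⟨d, hd0, hd⟩ := Char.IsIrrCharacter.exists_degree χ.2
  simp only [deg, hd, Complex.natCast_re]
  exact_mod_cast hd0

theorem char_mul_comm (χ : IrrCharacter G) (a b : G) : (χ : G → ℂ) (a * b) = (χ : G → ℂ) (b * a) := by
  obtain ⟨n, ρ, -, hρ⟩ := χ.2
  rw [← hρ]; exact (Representation.char_mul_comm ρ a b).symm

theorem char_inv (χ : IrrCharacter G) (a : G) : (χ : G → ℂ) a⁻¹ = conj ((χ : G → ℂ) a) :=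
  Char.IsCharacter.apply_inv (Char.IsIrrCharacter.isCharacter χ.2) a

theorem sum_eq_msum [Fintype H] (χ : IrrCharacter G) : ∑ h : H, (χ : G → ℂ) h = (msum (H := H) χ : ℂ) := by
  refine (Complex.conj_eq_iff_re.mp ?_).symm
  rw [map_sum]
  refine Fintype.sum_equiv (Equiv.inv H) _ _ fun h => ?_
  simp [char_inv]

theorem sum_erase_eq [Fintype H] (χ : IrrCharacter G) :
    ∑ c ∈ (univ : Finset H).erase 1, (χ : G → ℂ) c = ((msum (H := H) χ - deg χ : ℝ) : ℂ) := by
  have h := Finset.add_sum_erase _ (fun c : H => (χ : G → ℂ) c) (mem_univ (1 : H))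
  rw [sum_eq_msum] at h
  simp only [Subgroup.coe_one, deg_eq] at h
  push_cast
  linear_combination h

theorem sum_char_triple [Fintype G] (χ : IrrCharacter G) [Fintype H] :
    ∑ g : G, ∑ a : H, ∑ b : H, (χ : G → ℂ) (a * (g * b * g⁻¹)) =
      (Nat.card G : ℂ) * (msum (H := H) χ : ℂ) ^ 2 / (deg χ : ℂ) := by
  rw [← deg_eq, ← sum_eq_msum, sq]
  obtain ⟨n, ρ, hirr, hρ⟩ := χ.2
  rw [← hρ, Representation.char_one]
  rw [Finset.sum_comm, Finset.sum_mul_sum, Finset.mul_sum, Finset.sum_div]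
  refine Finset.sum_congr rfl fun a _ => ?_
  rw [Finset.sum_comm, Finset.mul_sum, Finset.sum_div]
  refine Finset.sum_congr rfl fun b _ => ?_
  rw [show (Nat.card G : ℂ) * (ρ.character a * ρ.character b) =
      (Nat.card G : ℂ) * ρ.character b * ρ.character a by ring, ← CharApp.sum_char_conj_mul ρ (b : G) a]
  exact Finset.sum_congr rfl fun g _ => Representation.char_mul_comm ρ _ _

/-! ### One pair -/

section pair

variable {g : G} (P : Pair p H g) (hH : IsPGroup p H)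

/-- The part of `∑ χ (a g b g⁻¹)` from products lying in `K`. -/
noncomputable def kPart [Fintype H] (χ : IrrCharacter G) : ℂ :=
  ∑ b : H, (χ : G → ℂ) ((P.twist hH b : G)⁻¹ * (g * b * g⁻¹))

theorem twist_mul_mem (b : H) : (P.twist hH b : G)⁻¹ * (g * b * g⁻¹) ∈ P.K := by
  have h := P.H_norm (H.inv_mem (P.twist hH b).2) (P.twist_spec hH b)
  simpa [mul_assoc] using h

theorem inner_sum [Fintype H] {χ : IrrCharacter G}
    (hshift : ∀ c : H, c ≠ 1 → ∀ k ∈ P.K, (χ : G → ℂ) (k * c) = (χ : G → ℂ) c) :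
    ∑ a : H, ∑ b : H, (χ : G → ℂ) (a * (g * b * g⁻¹)) =
      kPart P hH χ + (Nat.card H : ℂ) * ((msum (H := H) χ - deg χ : ℝ) : ℂ) := by
  rw [Finset.sum_comm, ← sum_erase_eq, kPart,
    show (Nat.card H : ℂ) * ∑ c ∈ (univ : Finset H).erase 1, (χ : G → ℂ) c =
      ∑ _b : H, ∑ c ∈ (univ : Finset H).erase 1, (χ : G → ℂ) c by
        rw [Finset.sum_const, Finset.card_univ, nsmul_eq_mul, Nat.card_eq_fintype_card],
    ← Finset.sum_add_distrib]
  refine Finset.sum_congr rfl fun b _ => ?_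
  obtain ⟨z, hz⟩ : ∃ z, z = P.twist hH b := ⟨_, rfl⟩
  have hk := P.twist_spec hH b
  rw [← hz] at hk ⊢
  rw [← Fintype.sum_equiv (Equiv.mulRight z⁻¹)
      (fun c : H => (χ : G → ℂ) ((c * z⁻¹ : H) * (g * b * g⁻¹))) _ (fun c => rfl),
    ← Finset.add_sum_erase _ _ (mem_univ (1 : H))]
  refine congrArg₂ (· + ·) (by simp) (Finset.sum_congr rfl fun c hc => ?_)
  have e : ((c * z⁻¹ : H) : G) * (g * b * g⁻¹) =
      (((c * z⁻¹ : H) : G) * (g * b * g⁻¹ * (z : G)⁻¹) * ((c * z⁻¹ : H) : G)⁻¹) * c := by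
    push_cast; group
  rw [e]
  exact hshift c (Finset.ne_of_mem_erase hc) _ (P.H_norm (c * z⁻¹ : H).2 hk)

theorem kPart_re_ge [Fintype H] {χ : IrrCharacter G}
    (hshift : ∀ c : H, c ≠ 1 → ∀ k ∈ P.K, (χ : G → ℂ) (k * c) = (χ : G → ℂ) c) (hcard : 2 ≤ Nat.card H) :
    (Nat.card H : ℝ) * (msum (H := H) χ - deg χ) ≤ ((Nat.card H : ℝ) - 1) * (kPart P hH χ).re := by
  haveI := Fintype.ofFinite P.K
  obtain ⟨nH, hnH⟩ : ∃ n : ℝ, n = (Nat.card H : ℝ) := ⟨_, rfl⟩
  obtain ⟨nK, hnK⟩ : ∃ n : ℝ, n = (Nat.card P.K : ℝ) := ⟨_, rfl⟩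
  have hK0 : 0 < nK := by rw [hnK]; exact_mod_cast Nat.card_pos
  have hH2 : (2 : ℝ) ≤ nH := by rw [hnH]; exact_mod_cast hcard
  obtain ⟨S, hS⟩ : ∃ S, S = kPart P hH χ := ⟨_, rfl⟩
  obtain ⟨F, hF⟩ : ∃ F : ℂ, F = ∑ k : P.K, (χ : G → ℂ) k := ⟨_, rfl⟩
  obtain ⟨T, hT⟩ : ∃ T : ℂ, T = ∑ k : P.K, ∑ h : H, (χ : G → ℂ) (k * h) := ⟨_, rfl⟩
  have hnHc : ((nH : ℝ) : ℂ) = (Fintype.card H : ℂ) := by simp [hnH, Nat.card_eq_fintype_card]
  have hnKc : ((nK : ℝ) : ℂ) = (Fintype.card P.K : ℂ) := by simp [hnK, Nat.card_eq_fintype_card]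
  have hTF : T = F + (nK : ℂ) * ((msum (H := H) χ - deg χ : ℝ) : ℂ) := by
    rw [hT, Finset.sum_comm, ← Finset.add_sum_erase _ _ (mem_univ (1 : H)), ← sum_erase_eq, Finset.mul_sum, hF]
    refine congrArg₂ (· + ·) (Finset.sum_congr rfl fun k _ => by simp) (Finset.sum_congr rfl fun c hc => ?_)
    rw [Finset.sum_congr rfl fun (k : P.K) _ => hshift c (Finset.ne_of_mem_erase hc) k k.2,
      Finset.sum_const, Finset.card_univ, nsmul_eq_mul, hnKc]
  -- the points of the first family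
  obtain ⟨w, hw⟩ : ∃ w : H → P.K, ∀ b : H, (w b : G) = (P.twist hH b : G) * (g * b * g⁻¹)⁻¹ :=
    ⟨fun b => ⟨_, by simpa [mul_assoc] using P.K.inv_mem (P.twist_spec hH b)⟩, fun b => rfl⟩
  have hTT : (∑ i : P.K × H, ∑ j : P.K × H, (χ : G → ℂ) (((i.1 : G) * i.2)⁻¹ * (j.1 * j.2))) =
      (nH : ℂ) * nK * T := by
    have : ∀ i : P.K × H, ∑ j : P.K × H, (χ : G → ℂ) (((i.1 : G) * i.2)⁻¹ * (j.1 * j.2)) = T := by
      rintro ⟨k, h⟩
      rw [hT, Fintype.sum_prod_type]
      refine Fintype.sum_equiv (Equiv.mulLeft k⁻¹) _ _ fun k' => Fintype.sum_equiv (Equiv.mulRight h⁻¹) _ _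
        fun h' => ?_
      simp only [Equiv.coe_mulLeft, Equiv.coe_mulRight, Subgroup.coe_mul, Subgroup.coe_inv]
      rw [show ((k : G) * h)⁻¹ * (k' * h') = (h : G)⁻¹ * ((k : G)⁻¹ * k' * h') by group, char_mul_comm]
      congr 1
      group
    simp only [this, Finset.sum_const, Finset.card_univ, Fintype.card_prod, nsmul_eq_mul, hnHc, hnKc]
    push_cast
    ring
  have hflip : ∀ {α β : Type _} [Fintype α] [Fintype β] (x : α → G) (y : β → G),
      (∑ i, ∑ j, (χ : G → ℂ) ((y i)⁻¹ * x j)).re = (∑ i, ∑ j, (χ : G → ℂ) ((x i)⁻¹ * y j)).re := by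
    intro α β _ _ x y
    rw [Finset.sum_comm, Complex.re_sum, Complex.re_sum]
    refine Finset.sum_congr rfl fun i _ => ?_
    rw [Complex.re_sum, Complex.re_sum]
    refine Finset.sum_congr rfl fun j _ => ?_
    rw [show (y j)⁻¹ * x i = ((x i)⁻¹ * y j)⁻¹ by group, char_inv, Complex.conj_re]
  -- `K S ≥ T`
  have h1 : 0 ≤ nH * nK * (nK * S.re - T.re) := by
    have h := two_block_nonneg χ.2 nK (-1) (fun b : H => (w b : G)) (fun i : P.K × H => (i.1 : G) * i.2)
    rw [hflip (fun b : H => (w b : G)) (fun i : P.K × H => (i.1 : G) * i.2), hTT] at h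
    have eS : S = ∑ s : H, (χ : G → ℂ) ((P.twist hH s : G) * (g * s * g⁻¹)⁻¹) := by
      rw [hS, kPart]
      refine Fintype.sum_equiv (Equiv.inv H) _ _ fun b => ?_
      simp [mul_assoc]
    have e1 : (∑ i : H, ∑ j : H, (χ : G → ℂ) ((w i : G)⁻¹ * w j)) = (nH : ℂ) * S := by
      have : ∀ i : H, ∑ j : H, (χ : G → ℂ) ((w i : G)⁻¹ * w j) = S := fun i => by
        rw [eS]
        refine Fintype.sum_equiv (Equiv.mulLeft i⁻¹) _ _ fun j => ?_
        simp only [hw, Equiv.coe_mulLeft, map_mul, map_inv, Subgroup.coe_mul, Subgroup.coe_inv]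
        rw [show ((P.twist hH i : G) * (g * i * g⁻¹)⁻¹)⁻¹ * ((P.twist hH j : G) * (g * j * g⁻¹)⁻¹) =
          (g * i * g⁻¹) * ((P.twist hH i : G)⁻¹ * (P.twist hH j : G) * (g * j * g⁻¹)⁻¹) by group, char_mul_comm]
        congr 1
        group
      simp only [this, Finset.sum_const, Finset.card_univ, nsmul_eq_mul, hnHc]
    have e2 : (∑ i : H, ∑ j : P.K × H, (χ : G → ℂ) ((w i : G)⁻¹ * (j.1 * j.2))) = (nH : ℂ) * T := by
      have : ∀ i : H, ∑ j : P.K × H, (χ : G → ℂ) ((w i : G)⁻¹ * (j.1 * j.2)) = T := fun i => by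
        rw [hT, Fintype.sum_prod_type]
        refine Fintype.sum_equiv (Equiv.mulLeft (w i)⁻¹) _ _ fun k => Finset.sum_congr rfl fun h _ => ?_
        simp [mul_assoc]
      simp only [this, Finset.sum_const, Finset.card_univ, nsmul_eq_mul, hnHc]
    rw [e1, e2] at h
    simp only [← Complex.ofReal_mul, Complex.re_ofReal_mul] at h
    linarith
  -- `H F ≥ T`
  have h2 : 0 ≤ nH * nK * (nH * F.re - T.re) := by
    have h := two_block_nonneg χ.2 nH (-1) (fun k : P.K => (k : G)) (fun i : P.K × H => (i.1 : G) * i.2)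
    rw [hflip (fun k : P.K => (k : G)) (fun i : P.K × H => (i.1 : G) * i.2), hTT] at h
    have e1 : (∑ i : P.K, ∑ j : P.K, (χ : G → ℂ) ((i : G)⁻¹ * j)) = (nK : ℂ) * F := by
      have : ∀ i : P.K, ∑ j : P.K, (χ : G → ℂ) ((i : G)⁻¹ * j) = F := fun i => by
        rw [hF]
        exact Fintype.sum_equiv (Equiv.mulLeft i⁻¹) _ _ fun j => by simp
      simp only [this, Finset.sum_const, Finset.card_univ, nsmul_eq_mul, hnKc]
    have e2 : (∑ i : P.K, ∑ j : P.K × H, (χ : G → ℂ) ((i : G)⁻¹ * (j.1 * j.2))) = (nK : ℂ) * T := by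
      have : ∀ i : P.K, ∑ j : P.K × H, (χ : G → ℂ) ((i : G)⁻¹ * (j.1 * j.2)) = T := fun i => by
        rw [hT, Fintype.sum_prod_type]
        refine Fintype.sum_equiv (Equiv.mulLeft i⁻¹) _ _ fun k => Finset.sum_congr rfl fun h _ => ?_
        simp [mul_assoc]
      simp only [this, Finset.sum_const, Finset.card_univ, nsmul_eq_mul, hnKc]
    rw [e1, e2] at h
    simp only [← Complex.ofReal_mul, Complex.re_ofReal_mul] at h
    linarith
  have hTF' : T.re = F.re + nK * (msum (H := H) χ - deg χ) := by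
    rw [hTF, Complex.add_re, Complex.re_ofReal_mul, Complex.ofReal_re]
  have hpos : 0 < nH * nK := mul_pos (by linarith) hK0
  have h3 := nonneg_of_mul_nonneg_right h1 hpos
  have h4 := nonneg_of_mul_nonneg_right h2 hpos
  rw [← hnH, ← hS]
  refine le_of_mul_le_mul_left ?_ hK0
  nlinarith [mul_le_mul_of_nonneg_left (show T.re ≤ nK * S.re by linarith) (show (0 : ℝ) ≤ nH - 1 by linarith)]

end pair

/-! ### The principal block -/

section block

variable [Fintype G] [Fintype H] [Fintype (IrrCharacter G)]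

/-- The principal block as a finite set. -/
noncomputable def b0 (M : Ideal AlgInt) : Finset (IrrCharacter G) := (principalBlock M G).toFinset

theorem mem_b0 {χ : IrrCharacter G} : χ ∈ b0 (G := G) M ↔ χ ∈ principalBlock M G := Set.mem_toFinset

theorem colSum_eq_b0 (a b : G) :
    SecondMain.colSum (principalBlock M G) a b = ∑ χ ∈ b0 (G := G) M, (χ : G → ℂ) a * conj ((χ : G → ℂ) b) := by
  rw [SecondMain.colSum, finsum_mem_eq_toFinset_sum, b0]

theorem p_dvd_orderOf (hH : IsPGroup p H) {c : H} (hc : c ≠ 1) : p ∣ orderOf (c : G) := by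
  obtain ⟨k, hk⟩ := IsPGroup.iff_orderOf.mp hH c
  rw [Subgroup.orderOf_coe, hk]
  refine dvd_pow_self p fun h0 => hc ?_
  rw [h0, pow_zero, orderOf_eq_one_iff] at hk
  exact hk

theorem orth_regular (hM : IsPModular p M) (hH : IsPGroup p H) {k : G} (hk : ¬ p ∣ orderOf k) :
    ∑ χ ∈ b0 (G := G) M, ((χ : G → ℂ) k).re * (msum (H := H) χ - deg χ) = 0 := by
  have h : ∑ χ ∈ b0 (G := G) M, (χ : G → ℂ) k * conj (∑ c ∈ (univ : Finset H).erase 1, (χ : G → ℂ) c) = 0 := by
    simp only [map_sum, Finset.mul_sum]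
    rw [Finset.sum_comm]
    refine Finset.sum_eq_zero fun c hc => ?_
    have h := Blocks.weak_orth hM (Blocks.blockInd_mem_intRing hM BrauerPairs.isPBlock_principal) hk
      (p_dvd_orderOf hH (Finset.ne_of_mem_erase hc))
    rwa [finsum_mem_eq_toFinset_sum] at h
  have h' := congrArg Complex.re h
  simp only [sum_erase_eq, Complex.conj_ofReal, Complex.re_sum, Complex.zero_re, Complex.mul_re,
    Complex.ofReal_re, Complex.ofReal_im, mul_zero, sub_zero] at h'
  exact h'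

theorem char_shift (hM : IsPModular p M) (hH : IsPGroup p H) (hab : IsMulCommutative H)
    (hC : ∀ z ∈ H, z ≠ 1 → Subgroup.normalClosure ((H.subgroupOf (Subgroup.centralizer ({z} : Set G))) : Set _) ≤
      H.subgroupOf (Subgroup.centralizer ({z} : Set G)) ⊔ pPrimeCore p (Subgroup.centralizer ({z} : Set G)))
    {g : G} (P : Pair p H g) {χ : IrrCharacter G} (hχ : χ ∈ principalBlock M G) (c : H) (hc : c ≠ 1) {k : G}
    (hk : k ∈ P.K) : (χ : G → ℂ) (k * c) = (χ : G → ℂ) c := by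
  obtain ⟨x, y, hy, hcy, he⟩ := P.exists_conj_eq hH hab c.2 hk
  have h1 : (χ : G → ℂ) (k * c) = (χ : G → ℂ) ((c : G) * y) := by
    rw [← he, char_mul_comm χ (x * (k * c)), ← mul_assoc, inv_mul_cancel, one_mul]
  rw [h1]
  obtain ⟨C, hCdef⟩ : ∃ C, C = Subgroup.centralizer ({(c : G)} : Set G) := ⟨_, rfl⟩
  haveI : IsMulCommutative H := hab
  have hsub : H ≤ Subgroup.centralizer ({(c : G)} : Set G) := fun h hh => by
    rw [Subgroup.mem_centralizer_singleton_iff]
    exact congrArg Subtype.val (mul_comm' (⟨h, hh⟩ : H) c)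
  have hyO := P.mem_core_centralizer hH hsub (hC c c.2 fun h => hc (Subtype.ext h)) hy hcy.symm
  refine ZStar.apply_mul_eq hM ?_ ((pPrimeCore p (Subgroup.centralizer ({(c : G)} : Set G))).map
      (Subgroup.centralizer ({(c : G)} : Set G)).subtype) ?_ ?_ ?_ hyO hχ
  · obtain ⟨j, hj⟩ := IsPGroup.iff_orderOf.mp hH c
    exact ⟨j, by rw [Subgroup.orderOf_coe, hj]⟩
  · rw [Cores.card_map_subtype]
    exact Cores.not_dvd_card_pPrimeCore
  · rintro o ⟨o', -, rfl⟩
    exact Subgroup.mem_centralizer_singleton_iff.mp o'.2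
  · rintro a ha o ⟨o', ho', rfl⟩
    haveI : (pPrimeCore p (Subgroup.centralizer ({(c : G)} : Set G))).Normal := Cores.pPrimeCore_normal p _
    exact ⟨⟨a, Subgroup.mem_centralizer_singleton_iff.mpr ha.eq⟩ * o' *
      ⟨a, Subgroup.mem_centralizer_singleton_iff.mpr ha.eq⟩⁻¹, Subgroup.Normal.conj_mem inferInstance o' ho' _, rfl⟩

/-- `|G| m² = d ∑ S + |G| |H| d (m - d)`. -/
theorem msum_sq_eq (hH : IsPGroup p H) (P : ∀ g : G, Pair p H g) {χ : IrrCharacter G}
    (hshift : ∀ g, ∀ c : H, c ≠ 1 → ∀ k ∈ (P g).K, (χ : G → ℂ) (k * c) = (χ : G → ℂ) c) :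
    (Nat.card G : ℝ) * (msum (H := H) χ) ^ 2 / deg χ =
      (∑ g, (kPart (P g) hH χ).re) + (Nat.card G : ℝ) * (Nat.card H : ℝ) * (msum (H := H) χ - deg χ) := by
  have h := sum_char_triple (H := H) χ
  simp only [fun g => inner_sum (P g) hH (hshift g), Finset.sum_add_distrib, Finset.sum_const,
    Finset.card_univ, nsmul_eq_mul, ← Nat.card_eq_fintype_card] at h
  have h' := congrArg Complex.re h
  have e : (Nat.card G : ℂ) * (msum (H := H) χ : ℂ) ^ 2 / (deg χ : ℂ) =
      (((Nat.card G : ℝ) * (msum (H := H) χ) ^ 2 / deg χ : ℝ) : ℂ) := by push_cast; rfl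
  rw [e, Complex.ofReal_re, Complex.add_re, Complex.re_sum] at h'
  simp only [← Complex.ofReal_natCast, ← Complex.ofReal_mul, Complex.ofReal_re] at h'
  linarith

theorem msum_lt (hHG : Subgroup.normalClosure (H : Set G) = ⊤) {χ : IrrCharacter G}
    (hne : χ ≠ BrauerPairs.oneIrr G) : msum (H := H) χ < (Nat.card H : ℝ) * deg χ := by
  have hle : ∀ h : H, ((χ : G → ℂ) h).re ≤ deg χ := fun h => by
    refine (Complex.re_le_norm _).trans ((Char.IsCharacter.norm_le (Char.IsIrrCharacter.isCharacter χ.2) _).trans_eq ?_)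
    rfl
  have hsum : msum (H := H) χ ≤ (Nat.card H : ℝ) * deg χ := by
    rw [msum, Complex.re_sum]
    refine (Finset.sum_le_sum fun h _ => hle h).trans_eq ?_
    rw [Finset.sum_const, Finset.card_univ, nsmul_eq_mul, Nat.card_eq_fintype_card]
  refine hsum.lt_of_ne fun he => hne ?_
  have heach : ∀ h : H, ((χ : G → ℂ) h).re = deg χ := by
    intro h
    refine le_antisymm (hle h) (le_of_not_gt fun hlt => ?_)
    have hs : ∑ x : H, ((χ : G → ℂ) x).re < ∑ _x : H, deg χ :=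
      Finset.sum_lt_sum (fun x _ => hle x) ⟨h, mem_univ _, hlt⟩
    rw [Finset.sum_const, Finset.card_univ, nsmul_eq_mul, ← Nat.card_eq_fintype_card, ← Complex.re_sum] at hs
    exact absurd he hs.ne
  obtain ⟨n, ρ, hirr, hρ⟩ := χ.2
  have hker : (H : Set G) ⊆ MonoidHom.ker ρ := by
    intro x hx
    have h1 := heach ⟨x, hx⟩
    simp only [deg, ← hρ, Representation.char_one, Complex.natCast_re] at h1
    have h2 : ρ.character x = (Module.finrank ℂ (Fin n → ℂ) : ℂ) := by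
      have h3 := Char.norm_character_le ρ x
      have h4 : (ρ.character x).im = 0 := by
        have h5 := Complex.sq_norm (ρ.character x)
        rw [Complex.normSq_apply, h1] at h5
        have h6 := pow_le_pow_left₀ (norm_nonneg _) h3 2
        have h7 : (ρ.character x).im * (ρ.character x).im ≤ 0 := by nlinarith
        exact mul_self_eq_zero.mp (le_antisymm h7 (mul_self_nonneg _))
      exact Complex.ext (by simpa using h1) (by simpa using h4)
    exact (Char.character_eq_finrank_iff ρ x).mp h2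
  have hall : ∀ x : G, (χ : G → ℂ) x = (χ : G → ℂ) 1 := fun x => by
    have hx : x ∈ MonoidHom.ker ρ := by
      have hle' : Subgroup.normalClosure (H : Set G) ≤ MonoidHom.ker ρ := Subgroup.normalClosure_le_normal hker
      exact hle' (hHG ▸ Subgroup.mem_top x)
    simp only [← hρ, Representation.character, MonoidHom.mem_ker.mp hx, map_one]
  have h1 := Char.card_mul_classInner (χ : G → ℂ) (χ : G → ℂ)
  rw [Char.classInner_irr_self χ.2, mul_one, Finset.sum_congr rfl (fun x _ => by rw [hall x]), deg_eq,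
    Complex.conj_ofReal, Finset.sum_const, Finset.card_univ, nsmul_eq_mul, ← Nat.card_eq_fintype_card] at h1
  have h2 : (deg χ) * (deg χ) = 1 := by
    have := congrArg Complex.re h1
    rw [← Complex.ofReal_mul, ← Complex.ofReal_natCast, ← Complex.ofReal_mul, Complex.ofReal_re,
      Complex.ofReal_re] at this
    exact mul_left_cancel₀ (Nat.cast_ne_zero.mpr Nat.card_pos.ne') (this.symm.trans (mul_one _).symm)
  have h3 : deg χ = 1 := by nlinarith [deg_pos χ]
  refine Subtype.ext (funext fun x => ?_)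
  rw [hall x, deg_eq, h3]
  simp [BrauerPairs.oneIrr]

theorem msum_bound (hH : IsPGroup p H) (P : ∀ g : G, Pair p H g) (hcard : 3 ≤ Nat.card H)
    (hHG : Subgroup.normalClosure (H : Set G) = ⊤) {χ : IrrCharacter G} (hne : χ ≠ BrauerPairs.oneIrr G)
    (hshift : ∀ g, ∀ c : H, c ≠ 1 → ∀ k ∈ (P g).K, (χ : G → ℂ) (k * c) = (χ : G → ℂ) c) :
    ((Nat.card H : ℝ) - 1) * msum (H := H) χ ≤ (Nat.card H : ℝ) * deg χ := by
  obtain ⟨m, hm⟩ : ∃ m, m = msum (H := H) χ := ⟨_, rfl⟩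
  obtain ⟨d, hd⟩ : ∃ d, d = deg χ := ⟨_, rfl⟩
  obtain ⟨q, hq⟩ : ∃ q : ℝ, q = (Nat.card H : ℝ) := ⟨_, rfl⟩
  have hd0 : 0 < d := hd ▸ deg_pos χ
  have hG : (0 : ℝ) < Nat.card G := by exact_mod_cast Nat.card_pos
  have hlt := msum_lt (H := H) hHG hne
  have hid := msum_sq_eq hH P hshift
  have hS : (Nat.card G : ℝ) * (q * (m - d)) ≤ (q - 1) * ∑ g, (kPart (P g) hH χ).re := by
    rw [Finset.mul_sum, hm, hd, hq]
    refine le_trans (le_of_eq ?_) (Finset.sum_le_sum fun g _ => kPart_re_ge (P g) hH (hshift g) (by omega))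
    rw [Finset.sum_const, Finset.card_univ, nsmul_eq_mul, Nat.card_eq_fintype_card]
  rw [← hm, ← hd, ← hq] at hid hlt ⊢
  have h1 : (Nat.card G : ℝ) * m ^ 2 = d * ((∑ g, (kPart (P g) hH χ).re) + (Nat.card G : ℝ) * q * (m - d)) := by
    rw [← hid]; field_simp
  have h2 : 0 ≤ (Nat.card G : ℝ) * ((m - q * d) * ((q - 1) * m - q * d)) := by
    nlinarith [mul_le_mul_of_nonneg_left hS hd0.le]
  have h3 := nonneg_of_mul_nonneg_right h2 hG
  by_contra hc
  nlinarith [mul_pos (show 0 < q * d - m by linarith) (show 0 < (q - 1) * m - q * d by linarith)]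

theorem block_identity (hM : IsPModular p M) (hH : IsPGroup p H) (P : ∀ g : G, Pair p H g)
    (hshift : ∀ χ ∈ b0 (G := G) M, ∀ g, ∀ c : H, c ≠ 1 → ∀ k ∈ (P g).K,
      (χ : G → ℂ) (k * c) = (χ : G → ℂ) c) :
    ∑ χ ∈ b0 (G := G) M, (msum (H := H) χ - deg χ) ^ 2 *
      (((Nat.card H : ℝ) - 1) - msum (H := H) χ / deg χ) = 0 := by
  have hG : (0 : ℝ) < Nat.card G := by exact_mod_cast Nat.card_pos
  have hsum : ∑ χ ∈ b0 (G := G) M, (msum (H := H) χ - deg χ) * (∑ g, (kPart (P g) hH χ).re) = 0 := by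
    simp only [Finset.mul_sum]
    rw [Finset.sum_comm]
    refine Finset.sum_eq_zero fun g _ => ?_
    simp only [kPart, Complex.re_sum, Finset.mul_sum]
    rw [Finset.sum_comm]
    refine Finset.sum_eq_zero fun b _ => ?_
    have hk : ¬ p ∣ orderOf ((((P g).twist hH b : H) : G)⁻¹ * (g * (b : G) * g⁻¹)) := fun h =>
      (Fact.out : p.Prime).coprime_iff_not_dvd.mp (P g).cop.symm
        (h.trans (Subgroup.orderOf_dvd_natCard _ (twist_mul_mem (P g) hH b)))
    rw [← orth_regular (H := H) hM hH hk]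
    exact Finset.sum_congr rfl fun χ _ => mul_comm _ _
  have h1 : ∑ χ ∈ b0 (G := G) M, deg χ * (msum (H := H) χ - deg χ) = 0 := by
    have h := orth_regular (H := H) (M := M) hM hH (k := 1) (by simpa using (Fact.out : p.Prime).one_lt.ne')
    exact h
  have hterm : ∀ χ ∈ b0 (G := G) M, (Nat.card G : ℝ) * ((msum (H := H) χ - deg χ) ^ 2 *
      (((Nat.card H : ℝ) - 1) - msum (H := H) χ / deg χ)) =
      -((msum (H := H) χ - deg χ) * ∑ g, (kPart (P g) hH χ).re) +
        (Nat.card G : ℝ) * (deg χ * (msum (H := H) χ - deg χ)) +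
        ((Nat.card H : ℝ) - 1) * 0 := by
    intro χ hχ
    have hid := msum_sq_eq hH P (hshift χ hχ)
    have hd := deg_pos χ
    obtain ⟨m, hm⟩ : ∃ m, m = msum (H := H) χ := ⟨_, rfl⟩
    obtain ⟨d, hd'⟩ : ∃ d, d = deg χ := ⟨_, rfl⟩
    obtain ⟨S, hS⟩ : ∃ S, S = ∑ g, (kPart (P g) hH χ).re := ⟨_, rfl⟩
    rw [← hm, ← hd', ← hS] at hid ⊢
    rw [← hd'] at hd
    have hS' : S = (Nat.card G : ℝ) * m ^ 2 / d - (Nat.card G : ℝ) * (Nat.card H : ℝ) * (m - d) := by linarith
    rw [hS']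
    field_simp
    ring
  have := Finset.mul_sum (b0 (G := G) M) (fun χ => (msum (H := H) χ - deg χ) ^ 2 *
      (((Nat.card H : ℝ) - 1) - msum (H := H) χ / deg χ)) (Nat.card G : ℝ)
  rw [Finset.sum_congr rfl hterm] at this
  simp only [mul_zero, add_zero, Finset.sum_add_distrib, Finset.sum_neg_distrib, hsum, ← Finset.mul_sum, h1,
    neg_zero, mul_eq_zero] at this
  exact this.resolve_left hG.ne'

theorem card_le_sum_sq {C : Type*} [Group C] [Finite C] [Fintype (IrrCharacter C)] (hM : IsPModular p M)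
    {Q : Subgroup C} (hQ : IsPGroup p Q) :
    (Nat.card Q : ℝ) ≤ (∑ θ ∈ (principalBlock M C).toFinset, (θ : C → ℂ) 1 * conj ((θ : C → ℂ) 1)).re := by
  haveI := Fintype.ofFinite Q
  haveI := Fintype.ofFinite C
  have hB := Blocks.blockInd_mem_intRing hM (BrauerPairs.isPBlock_principal (G := C))
  have h1 : ∑ θ ∈ (principalBlock M C).toFinset, (θ : C → ℂ) 1 * conj (∑ x : Q, (θ : C → ℂ) x) =
      ∑ θ ∈ (principalBlock M C).toFinset, (θ : C → ℂ) 1 * conj ((θ : C → ℂ) 1) := by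
    simp only [map_sum, Finset.mul_sum]
    rw [Finset.sum_comm, Finset.sum_eq_single_of_mem (1 : Q) (mem_univ _)]
    · simp
    · intro x _ hx
      have h := Blocks.weak_orth hM hB (x := 1) (by simpa using (Fact.out : p.Prime).one_lt.ne')
        (p_dvd_orderOf hQ hx)
      rwa [finsum_mem_eq_toFinset_sum] at h
  rw [← h1, Complex.re_sum]
  have hterm : ∀ θ : IrrCharacter C, ∃ n : ℕ, ∑ x : Q, (θ : C → ℂ) x = (Nat.card Q : ℂ) * n := fun θ => by
    obtain ⟨k, ρ, hirr, hρ⟩ := θ.2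
    refine ⟨Module.finrank ℂ (Representation.invariants (ρ.comp Q.subtype)), ?_⟩
    rw [← CharApp.sum_char_eq_card_mul (ρ.comp Q.subtype), ← hρ]
    rfl
  have hnn : ∀ θ : IrrCharacter C, 0 ≤ ((θ : C → ℂ) 1 * conj (∑ x : Q, (θ : C → ℂ) x)).re := fun θ => by
    obtain ⟨n, hn⟩ := hterm θ
    rw [hn, deg_eq, map_mul, map_natCast, map_natCast, Complex.re_ofReal_mul, ← Nat.cast_mul, Complex.natCast_re]
    exact mul_nonneg (deg_pos θ).le (Nat.cast_nonneg _)
  refine le_trans (le_of_eq ?_) (Finset.single_le_sum (fun θ _ => hnn θ)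
    (Set.mem_toFinset.mpr (BrauerPairs.oneIrr_mem_principal (G := C) hM)))
  simp [BrauerPairs.oneIrr, Nat.card_eq_fintype_card]

theorem card_le_col {Q : Subgroup G} (hM : IsPModular p M) (hH : IsPGroup p H) (hQ : IsPGroup p Q) (a : H)
    (hQa : ∀ x ∈ Q, Commute (a : G) x) :
    (Nat.card Q : ℝ) ≤ (∑ χ ∈ b0 (G := G) M, (χ : G → ℂ) a * conj ((χ : G → ℂ) a)).re := by
  obtain ⟨C, hC⟩ : ∃ C, C = Subgroup.centralizer ({(a : G)} : Set G) := ⟨_, rfl⟩
  have hmem : ∀ g, g ∈ C ↔ Commute (a : G) g := fun g => by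
    rw [hC, Subgroup.mem_centralizer_singleton_iff]; exact ⟨fun h => h.symm, fun h => h.symm⟩
  obtain ⟨j, hj⟩ := IsPGroup.iff_orderOf.mp hH a
  have hx : ∃ k, orderOf (a : G) = p ^ k := ⟨j, by rw [Subgroup.orderOf_coe, hj]⟩
  have h1 : ¬ p ∣ orderOf (1 : C) := by simpa using (Fact.out : p.Prime).one_lt.ne'
  have h := SecondMain.colSum_eq_sum hM BrauerPairs.isPBlock_principal hx hmem (s := 1) (t := 1) h1 h1
    (B := principalBlock M G)
  rw [SecondMain.inducedSet_principal hM hx hmem, finsum_mem_singleton, Subgroup.coe_one, mul_one,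
    colSum_eq_b0] at h
  rw [h]
  haveI := Fintype.ofFinite C
  haveI := Fintype.ofFinite (IrrCharacter C)
  rw [SecondMain.colSum, finsum_mem_eq_toFinset_sum]
  have hQC : Q ≤ C := fun x hx => (hmem x).mpr (hQa x hx)
  rw [← Cores.card_subgroupOf hQC]
  exact card_le_sum_sq hM (hQ.comap_subtype (K := C))

/-- The column inner product of `a` with the sum over `H \ {1}`. -/
noncomputable def colH (M : Ideal AlgInt) (a : H) : ℝ :=
  ∑ b ∈ (univ : Finset H).erase 1, (∑ χ ∈ b0 (G := G) M, (χ : G → ℂ) a * conj ((χ : G → ℂ) b)).re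

theorem colH_ge (hM : IsPModular p M) (hH : IsPGroup p H) (a : H) (S : Finset H)
    (hS : ∀ b ∈ S, b ≠ 1 ∧ IsConj (a : G) b) :
    (S.card : ℝ) * (∑ χ ∈ b0 (G := G) M, (χ : G → ℂ) a * conj ((χ : G → ℂ) a)).re ≤ colH M a := by
  have hsub : S ⊆ (univ : Finset H).erase 1 := fun b hb => Finset.mem_erase.mpr ⟨(hS b hb).1, mem_univ _⟩
  have hconj : ∀ b : H, IsConj (a : G) b → (∑ χ ∈ b0 (G := G) M, (χ : G → ℂ) a * conj ((χ : G → ℂ) b)).re =
      (∑ χ ∈ b0 (G := G) M, (χ : G → ℂ) a * conj ((χ : G → ℂ) a)).re := fun b hb => by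
    obtain ⟨c, hc⟩ := isConj_iff.mp hb
    congr 1
    refine Finset.sum_congr rfl fun χ _ => ?_
    rw [← hc, char_mul_comm, ← mul_assoc, inv_mul_cancel, one_mul]
  have hnn : ∀ b ∈ (univ : Finset H).erase 1, 0 ≤ (∑ χ ∈ b0 (G := G) M, (χ : G → ℂ) a * conj ((χ : G → ℂ) b)).re := by
    intro b hb
    by_cases h : IsConj (a : G) b
    · rw [hconj b h, Complex.re_sum]
      exact Finset.sum_nonneg fun χ _ => by rw [Complex.mul_conj, Complex.ofReal_re]; exact Complex.normSq_nonneg _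
    · obtain ⟨i, hi⟩ := IsPGroup.iff_orderOf.mp hH a
      obtain ⟨j, hj⟩ := IsPGroup.iff_orderOf.mp hH b
      have h1 : ¬ p ∣ orderOf (1 : G) := by simpa using (Fact.out : p.Prime).one_lt.ne'
      have h0 := SecondMain.colSum_eq_zero hM (BrauerPairs.isPBlock_principal (G := G))
        (x := (a : G)) (x' := (b : G)) ⟨i, by rw [Subgroup.orderOf_coe, hi]⟩ ⟨j, by rw [Subgroup.orderOf_coe, hj]⟩
        h1 h1 (Commute.one_right _) (Commute.one_right _) h
      rw [mul_one, mul_one, colSum_eq_b0] at h0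
      rw [h0, Complex.zero_re]
  refine le_trans (le_of_eq ?_) (Finset.sum_le_sum_of_subset_of_nonneg hsub fun b hb _ => hnn b hb)
  rw [Finset.sum_congr rfl fun b hb => hconj b (hS b hb).2, Finset.sum_const, nsmul_eq_mul]

theorem sum_sq_eq : ∑ χ ∈ b0 (G := G) M, (msum (H := H) χ - deg χ) ^ 2 = ∑ a ∈ (univ : Finset H).erase 1, colH M a := by
  simp only [colH, ← Complex.re_sum]
  rw [← Complex.ofReal_re (∑ χ ∈ b0 (G := G) M, (msum (H := H) χ - deg χ) ^ 2)]
  congr 1
  push_cast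
  rw [Finset.sum_congr rfl fun a (_ : a ∈ (univ : Finset H).erase 1) => Finset.sum_comm, Finset.sum_comm]
  refine Finset.sum_congr rfl fun χ _ => ?_
  rw [← Finset.sum_mul_sum, ← map_sum, sum_erase_eq, Complex.conj_ofReal, sq]
  push_cast
  ring

theorem sum_sq_ge (hM : IsPModular p M) (hH : IsPGroup p H) (hab : IsMulCommutative H) (hcard : 3 ≤ Nat.card H)
    (hfus : (∃ a b : H, a ≠ b ∧ a ≠ 1 ∧ IsConj (a : G) b) ∨
      ∃ Q : Subgroup G, IsPGroup p Q ∧ Nat.card H < Nat.card Q ∧ ∀ x ∈ Q, ∀ a ∈ H, Commute a x) :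
    (Nat.card H : ℝ) * ((Nat.card H : ℝ) + 1) ≤ ∑ χ ∈ b0 (G := G) M, (msum (H := H) χ - deg χ) ^ 2 := by
  haveI : IsMulCommutative H := hab
  rw [sum_sq_eq]
  have hcH : ((univ : Finset H).erase 1).card = Nat.card H - 1 := by
    rw [Finset.card_erase_of_mem (mem_univ _), Finset.card_univ, Nat.card_eq_fintype_card]
  obtain ⟨q, hq⟩ : ∃ q : ℝ, q = (Nat.card H : ℝ) := ⟨_, rfl⟩
  have hq3 : (3 : ℝ) ≤ q := by rw [hq]; exact_mod_cast hcard
  have hone : ∀ a : H, a ≠ 1 → q ≤ colH M a := fun a ha => by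
    refine le_trans (hq ▸ card_le_col hM hH hH a fun x hx => ?_)
      ((le_of_eq (one_mul _).symm).trans (le_of_eq_of_le (by simp)
        (colH_ge hM hH a {a} fun b hb => by rw [Finset.mem_singleton.mp hb]; exact ⟨ha, IsConj.refl _⟩)))
    exact congrArg Subtype.val (mul_comm' a ⟨x, hx⟩)
  rw [← hq]
  rcases hfus with ⟨a, b, hab', ha, hconj⟩ | ⟨Q, hQ, hHQ, hQc⟩
  · have hb : b ≠ 1 := fun h => ha (Subtype.ext (isConj_one_left.mp (by simpa [h] using hconj)))
    have htwo : ∀ x y : H, x ≠ 1 → y ≠ 1 → x ≠ y → IsConj (x : G) y → 2 * q ≤ colH M x := by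
      intro x y hx hy hxy hc
      have h := colH_ge hM hH x {x, y} fun z hz => by
        rcases Finset.mem_insert.mp hz with rfl | hz
        · exact ⟨hx, IsConj.refl _⟩
        · rw [Finset.mem_singleton.mp hz]; exact ⟨hy, hc⟩
      rw [Finset.card_pair hxy] at h
      refine le_trans ?_ h
      push_cast
      have := hq ▸ card_le_col hM hH hH x fun z hz => congrArg Subtype.val (mul_comm' x ⟨z, hz⟩)
      linarith
    have hmema : a ∈ (univ : Finset H).erase 1 := by simp [ha]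
    have hmemb : b ∈ ((univ : Finset H).erase 1).erase a := by simp [hb, Ne.symm hab']
    rw [← Finset.add_sum_erase _ _ hmema, ← Finset.add_sum_erase _ _ hmemb]
    have hrest : (q - 3) * q ≤ ∑ x ∈ (((univ : Finset H).erase 1).erase a).erase b, colH M x := by
      refine le_trans (le_of_eq ?_) (Finset.card_nsmul_le_sum _ _ q fun x hx => hone x ?_)
      · rw [Finset.card_erase_of_mem hmemb, Finset.card_erase_of_mem hmema, hcH, nsmul_eq_mul, hq]
        rw [show Nat.card H - 1 - 1 - 1 = Nat.card H - 3 by omega, Nat.cast_sub hcard]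
        push_cast; ring
      · exact (Finset.mem_erase.mp (Finset.mem_of_mem_erase (Finset.mem_of_mem_erase hx))).1
    nlinarith [htwo a b ha hb hab' hconj, htwo b a hb ha (Ne.symm hab') hconj.symm]
  · have h2 : ∀ a : H, a ≠ 1 → 2 * q ≤ colH M a := fun a ha => by
      refine le_trans ?_ (le_trans (card_le_col hM hH hQ a fun x hx => hQc x hx a a.2)
        ((le_of_eq (one_mul _).symm).trans (le_of_eq_of_le (by simp) (colH_ge hM hH a {a} fun b hb => by rw [Finset.mem_singleton.mp hb]; exact ⟨ha, IsConj.refl _⟩))))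
      obtain ⟨i, hi⟩ := hH.exists_card_eq
      obtain ⟨j, hj⟩ := hQ.exists_card_eq
      have hij : i < j := (Nat.pow_lt_pow_iff_right (Fact.out : p.Prime).one_lt).mp (hi ▸ hj ▸ hHQ)
      have : 2 * Nat.card H ≤ Nat.card Q := by
        rw [hi, hj]
        calc 2 * p ^ i ≤ p * p ^ i := Nat.mul_le_mul_right _ (Fact.out : p.Prime).two_le
          _ = p ^ (i + 1) := (pow_succ' p i).symm
          _ ≤ p ^ j := Nat.pow_le_pow_right (Fact.out : p.Prime).pos hij
      rw [hq]; exact_mod_cast this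
    refine le_trans ?_ (Finset.card_nsmul_le_sum _ _ (2 * q) fun x hx => h2 x (Finset.mem_erase.mp hx).1)
    rw [hcH, nsmul_eq_mul, Nat.cast_sub (by omega), Nat.cast_one, ← hq]
    nlinarith

/-- The inequalities are incompatible. -/
theorem not_fused (hM : IsPModular p M) (hH : IsPGroup p H) (hab : IsMulCommutative H)
    (P : ∀ g : G, Pair p H g) (hcard : 3 ≤ Nat.card H) (hHG : Subgroup.normalClosure (H : Set G) = ⊤)
    (hC : ∀ z ∈ H, z ≠ 1 → Subgroup.normalClosure ((H.subgroupOf (Subgroup.centralizer ({z} : Set G))) : Set _) ≤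
      H.subgroupOf (Subgroup.centralizer ({z} : Set G)) ⊔ pPrimeCore p (Subgroup.centralizer ({z} : Set G))) :
    ¬ ((∃ a b : H, a ≠ b ∧ a ≠ 1 ∧ IsConj (a : G) b) ∨
      ∃ Q : Subgroup G, IsPGroup p Q ∧ Nat.card H < Nat.card Q ∧ ∀ x ∈ Q, ∀ a ∈ H, Commute a x) := by
  intro hfus
  have hshift : ∀ χ ∈ b0 (G := G) M, ∀ g, ∀ c : H, c ≠ 1 → ∀ k ∈ (P g).K, (χ : G → ℂ) (k * c) = (χ : G → ℂ) c :=
    fun χ hχ g c hc k hk => char_shift hM hH hab hC (P g) (mem_b0.mp hχ) c hc hk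
  obtain ⟨q, hq⟩ : ∃ q : ℝ, q = (Nat.card H : ℝ) := ⟨_, rfl⟩
  have hq3 : (3 : ℝ) ≤ q := by rw [hq]; exact_mod_cast hcard
  have hZ := sum_sq_ge hM hH hab hcard hfus
  have hid := block_identity hM hH P hshift
  have hone : BrauerPairs.oneIrr G ∈ b0 (G := G) M := mem_b0.mpr (BrauerPairs.oneIrr_mem_principal hM)
  have hd1 : deg (BrauerPairs.oneIrr G) = 1 := by simp [deg, BrauerPairs.oneIrr]
  have hm1 : msum (H := H) (BrauerPairs.oneIrr G) = q := by
    simp [msum, BrauerPairs.oneIrr, hq, Nat.card_eq_fintype_card]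
  obtain ⟨R, hR⟩ : ∃ R, R = (b0 (G := G) M).erase (BrauerPairs.oneIrr G) := ⟨_, rfl⟩
  obtain ⟨k, hk⟩ : ∃ k : ℝ, k = q - 1 - q / (q - 1) := ⟨_, rfl⟩
  rw [← hq] at hZ hid
  rw [← Finset.add_sum_erase _ _ hone, hd1, hm1, ← hR] at hZ hid
  have hrest : ∀ χ ∈ R, k * (msum (H := H) χ - deg χ) ^ 2 ≤ (msum (H := H) χ - deg χ) ^ 2 *
      ((q - 1) - msum (H := H) χ / deg χ) := fun χ hχ => by
    rw [hR] at hχ
    have hb := msum_bound hH P hcard hHG (Finset.ne_of_mem_erase hχ) (hshift χ (Finset.mem_of_mem_erase hχ))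
    rw [← hq] at hb
    rw [mul_comm]
    refine mul_le_mul_of_nonneg_left ?_ (sq_nonneg _)
    rw [hk]
    have hu : msum (H := H) χ / deg χ ≤ q / (q - 1) := by
      rw [div_le_div_iff₀ (deg_pos χ) (by linarith)]
      nlinarith
    linarith
  have horth : ∑ χ ∈ b0 (G := G) M, deg χ * (msum (H := H) χ - deg χ) = 0 :=
    orth_regular (H := H) (M := M) hM hH (k := 1) (by simpa using (Fact.out : p.Prime).one_lt.ne')
  rw [← Finset.add_sum_erase _ _ hone, hd1, hm1, ← hR] at horth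
  obtain ⟨χ, hχ, hneg⟩ : ∃ χ ∈ R, deg χ * (msum (H := H) χ - deg χ) < 0 :=
    Finset.exists_lt_of_sum_lt (s := R) (g := fun _ => (0 : ℝ)) (by simp only [Finset.sum_const_zero]; linarith)
  have hstrict : ∑ χ ∈ R, k * (msum (H := H) χ - deg χ) ^ 2 < ∑ χ ∈ R, (msum (H := H) χ - deg χ) ^ 2 *
      ((q - 1) - msum (H := H) χ / deg χ) := by
    refine Finset.sum_lt_sum hrest ⟨χ, hχ, ?_⟩
    have hd := deg_pos χ
    have hlt : msum (H := H) χ < deg χ := by
      by_contra h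
      nlinarith [mul_nonneg hd.le (sub_nonneg.mpr (not_lt.mp h))]
    rw [mul_comm]
    refine mul_lt_mul_of_pos_left ?_ (by have : msum (H := H) χ - deg χ ≠ 0 := (sub_neg.mpr hlt).ne; positivity)
    have h1 : msum (H := H) χ / deg χ < 1 := (div_lt_one hd).mpr hlt
    have h2 : 1 < q / (q - 1) := (one_lt_div (by linarith)).mpr (by linarith)
    rw [hk]; linarith
  rw [← Finset.mul_sum] at hstrict
  obtain ⟨Z, hZdef⟩ : ∃ Z, Z = ∑ χ ∈ R, (msum (H := H) χ - deg χ) ^ 2 := ⟨_, rfl⟩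
  rw [← hZdef] at hstrict hZ
  have h1 : k * Z < (q - 1) ^ 2 := by nlinarith
  have h2 : 3 * q - 1 ≤ Z := by nlinarith
  have h3 : (q - 1) * k = q ^ 2 - 3 * q + 1 := by rw [hk, mul_sub, mul_div_cancel₀ _ (show q - 1 ≠ 0 by linarith)]; ring
  have hk0 : 0 ≤ k := by nlinarith
  have h4 : (q ^ 2 - 3 * q + 1) * (3 * q - 1) < (q - 1) ^ 3 := by
    rw [← h3]
    nlinarith [mul_le_mul_of_nonneg_left h2 hk0]
  nlinarith [mul_nonneg (show (0 : ℝ) ≤ 2 * q - 1 by linarith) (show (0 : ℝ) ≤ q - 3 by linarith)]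

end block

end Cfsg.Agent.ExtremeClosed
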