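import Cfsg.Agent.Lib.ExtremeClosed.Main
import Cfsg.Agent.Lib.GlauberChar.CyclicCorr
import Cfsg.Agent.Lib.GlauberChar.Basic
import Cfsg.Agent.Lib.Codegree.Basic

/-!
# Extremely closed abelian p-subgroups, p odd: no fixed points in the core

`closure_inf_normalizer`: for p odd the normal closure of `H` meets `N(H)` in `H`. In a minimal counterexample
`G = K H`; for an `H`-invariant irreducible character `ψ` of `K` and `a ∈ H` of order p, the canonical extension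
`χ` to `K ⟨a⟩` takes the same value at every product of two conjugates of `a`, so `χ(a)² = χ(1) χ(a)`, whence
`a` centralizes `K` modulo the kernel of `ψ`.
-/

set_option autoImplicit false
set_option linter.style.haveILetI false
set_option linter.unusedSectionVars false

namespace Cfsg.Agent.ExtremeClosed

open scoped ComplexConjugate

universe u

section tools

variable {G : Type*} [Group G] [Finite G] {p : ℕ} [Fact p.Prime]

theorem Pair.mem_of_commutators {H : Subgroup G} {g : G} (P : Pair p H g) (hH : IsPGroup p H) {O : Subgroup G}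
    (hO : ∀ h ∈ H, ∀ o ∈ O, h * o * h⁻¹ ∈ O) {y : G} (hy : y ∈ P.K)
    (hc : ∀ h ∈ H, y⁻¹ * h * y * h⁻¹ ∈ O) : y ∈ O := by
  classical
  let W : Subgroup G := O ⊓ P.K
  have hWcop : (Nat.card W).Coprime p := P.cop.coprime_dvd_left (Subgroup.card_dvd_of_le inf_le_right)
  have key : ∀ h ∈ H, y⁻¹ * h * y * h⁻¹ ∈ W := fun h hh => ⟨hc h hh, by
    simpa [mul_assoc] using P.K.mul_mem (P.K.inv_mem hy) (P.H_norm hh hy)⟩
  let Y : Set G := {x | y⁻¹ * x ∈ W}
  let act : MulAction H Y :=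
    { smul := fun h x => ⟨(h : G) * x * (h : G)⁻¹, by
        show y⁻¹ * ((h : G) * x * (h : G)⁻¹) ∈ W
        rw [show y⁻¹ * ((h : G) * x * (h : G)⁻¹) =
          (y⁻¹ * (h : G) * y * (h : G)⁻¹) * ((h : G) * (y⁻¹ * x) * (h : G)⁻¹) by group]
        exact W.mul_mem (key h h.2) ⟨hO h h.2 _ x.2.1, P.H_norm h.2 x.2.2⟩⟩
      one_smul := fun x => Subtype.ext (show ((1 : H) : G) * (x : G) * ((1 : H) : G)⁻¹ = x by simp)
      mul_smul := fun a b x => Subtype.ext (show ((a * b : H) : G) * (x : G) * ((a * b : H) : G)⁻¹ =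
        (a : G) * ((b : G) * x * (b : G)⁻¹) * (a : G)⁻¹ by simp [mul_assoc]) }
  letI := act
  have hcardY : Nat.card Y = Nat.card W := Nat.card_congr
    { toFun := fun x => ⟨y⁻¹ * x, x.2⟩
      invFun := fun w => ⟨y * w, by show y⁻¹ * (y * (w : G)) ∈ W; simp⟩
      left_inv := fun x => Subtype.ext (by simp)
      right_inv := fun w => Subtype.ext (by simp) }
  have hmod := hH.card_modEq_card_fixedPoints Y
  have hne : Nat.card (MulAction.fixedPoints H Y) ≠ 0 := by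
    intro h0
    rw [h0, hcardY, Nat.modEq_zero_iff_dvd] at hmod
    exact (Fact.out : p.Prime).coprime_iff_not_dvd.mp hWcop.symm hmod
  obtain ⟨x, hx⟩ := (Nat.card_ne_zero.mp hne).1
  have hxK : (x : G) ∈ P.K := by
    have := P.K.mul_mem hy x.2.2
    rwa [mul_inv_cancel_left] at this
  have h1 : (x : G) = 1 := P.fixed _ hxK fun h hh => by
    have := congrArg Subtype.val (hx ⟨h, hh⟩)
    change h * (x : G) * h⁻¹ = x at this
    exact mul_inv_eq_iff_eq_mul.mp this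
  have h2 := W.inv_mem x.2
  rw [h1] at h2
  exact (by simpa using h2 : y ∈ W).1

/-- Extreme closure passes to quotients by normal p'-subgroups. -/
theorem extremelyClosed_quotient_coprime {H N : Subgroup G} [N.Normal] (hH : IsPGroup p H)
    (hab : IsMulCommutative H) (hcl : IsExtremelyClosed H) (hN : (Nat.card N).Coprime p) :
    IsExtremelyClosed (H.map (QuotientGroup.mk' N)) := by
  intro q
  refine le_antisymm ?_ (le_inf le_sup_left Subgroup.le_normalizer)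
  obtain ⟨g, rfl⟩ := QuotientGroup.mk'_surjective N q
  obtain ⟨P⟩ := exists_pair hH hab hcl g
  rintro y ⟨hy, hn⟩
  have h1 : (H.map (QuotientGroup.mk' N)).map (MulAut.conj (QuotientGroup.mk' N g)).toMonoidHom =
      (H.map (MulAut.conj g).toMonoidHom).map (QuotientGroup.mk' N) := by
    rw [Subgroup.map_map, Subgroup.map_map]
    congr 1
  rw [h1, ← Subgroup.map_sup] at hy
  obtain ⟨x, hx, rfl⟩ := hy
  obtain ⟨h0, hh0, hk⟩ := P.split x hx
  have hkN : x * h0⁻¹ ∈ N := by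
    refine P.mem_of_commutators hH (fun h _ o ho => Subgroup.Normal.conj_mem inferInstance o ho h) hk fun h hh => ?_
    have hkn : QuotientGroup.mk' N (x * h0⁻¹) ∈ Subgroup.normalizer
        ((H.map (QuotientGroup.mk' N) : Subgroup (G ⧸ N)) : Set (G ⧸ N)) := by
      rw [map_mul]
      exact Subgroup.mul_mem _ hn (Subgroup.le_normalizer (Subgroup.mem_map_of_mem _ (H.inv_mem hh0)))
    obtain ⟨h', hh', he⟩ :=
      (Subgroup.mem_normalizer_iff''.mp hkn _).mp (Subgroup.mem_map_of_mem _ hh)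
    rw [← map_inv, ← map_mul, ← map_mul] at he
    obtain ⟨k, hkdef⟩ : ∃ k, k = x * h0⁻¹ := ⟨_, rfl⟩
    rw [← hkdef] at he hk ⊢
    -- `k⁻¹ h k ≡ h'` mod `N`, and `k⁻¹ h k ≡ h` mod `K`
    have hmem : h'⁻¹ * (k⁻¹ * h * k) ∈ N := QuotientGroup.eq.mp he
    have hKc : k⁻¹ * h * k * h⁻¹ ∈ P.K := by
      simpa [mul_assoc] using P.K.mul_mem (P.K.inv_mem hk) (P.H_norm hh hk)
    have hcomm : QuotientGroup.mk' N (k⁻¹ * h * k * h⁻¹) = QuotientGroup.mk' N (h' * h⁻¹) := by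
      rw [map_mul _ (k⁻¹ * h * k), ← he, ← map_mul]
    have o1 : orderOf (QuotientGroup.mk' N (h' * h⁻¹)) ∣ Nat.card P.K := by
      rw [← hcomm]
      exact (orderOf_map_dvd _ _).trans (Subgroup.orderOf_dvd_natCard P.K hKc)
    have o2 : orderOf (QuotientGroup.mk' N (h' * h⁻¹)) ∣ Nat.card H :=
      (orderOf_map_dvd _ _).trans (Subgroup.orderOf_dvd_natCard H (H.mul_mem hh' (H.inv_mem hh)))
    obtain ⟨n, hn'⟩ := hH.exists_card_eq
    rw [hn'] at o2
    have h1 := orderOf_eq_one_iff.mp (Nat.eq_one_of_dvd_coprimes (P.cop.symm.pow_left n) o2 o1)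
    rw [← hcomm] at h1
    exact (QuotientGroup.eq_one_iff _).mp h1
  refine ⟨h0, hh0, ?_⟩
  refine QuotientGroup.eq.mpr ?_
  rw [show h0⁻¹ * x = h0⁻¹ * (x * h0⁻¹) * h0⁻¹⁻¹ by group]
  exact Subgroup.Normal.conj_mem inferInstance _ hkN _

theorem normalClosure_le_map {H : Subgroup G} (P : ∀ g : G, Pair p H g) (hH : IsPGroup p H) {L : Subgroup G}
    [L.Normal] (hHL : H ≤ L) :
    Subgroup.normalClosure (H : Set G) ≤
      (Subgroup.normalClosure ((H.subgroupOf L : Subgroup L) : Set L)).map L.subtype := by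
  refine (Subgroup.closure_le _).mpr fun y hy => ?_
  obtain ⟨a, ha, hay⟩ := Group.mem_conjugatesOfSet_iff.mp hy
  obtain ⟨g, rfl⟩ := isConj_iff.mp hay
  obtain ⟨k, hk, hk'⟩ := (P g).exists_conj_mem hH
  have hkL : k ∈ L := by
    refine (sup_le hHL ?_) ((P g).le_sup hk)
    rintro _ ⟨z, hz, rfl⟩
    exact Subgroup.Normal.conj_mem inferInstance z (hHL hz) g
  obtain ⟨kL, hkL'⟩ : ∃ kL : L, (kL : G) = k := ⟨⟨k, hkL⟩, rfl⟩
  obtain ⟨a', ha'⟩ : ∃ a' : L, (a' : G) = k * (g * a * g⁻¹) * k⁻¹ := ⟨⟨_, hHL (hk' a ha)⟩, rfl⟩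
  refine ⟨kL⁻¹ * a' * kL⁻¹⁻¹, Subgroup.normalClosure_normal.conj_mem a' (Subgroup.subset_normalClosure ?_) _, ?_⟩
  · show (a' : G) ∈ H
    rw [ha']; exact hk' a ha
  · simp only [Subgroup.coe_subtype, Subgroup.coe_mul, Subgroup.coe_inv, ha', hkL']
    group

theorem not_top_le_kerSub {ψ : IrrCharacter G} (hne : (ψ : G → ℂ) ≠ fun _ => 1) : ¬ ⊤ ≤ Codegree.kerSub ψ := by
  intro hle
  have := Fintype.ofFinite G
  obtain ⟨d, hd0, hd⟩ := Char.IsIrrCharacter.exists_degree ψ.2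
  have hall : ∀ x : G, (ψ : G → ℂ) x = (d : ℂ) := fun x => (hle (Subgroup.mem_top x)).trans hd
  have h1 := Char.card_mul_classInner (ψ : G → ℂ) (ψ : G → ℂ)
  rw [Char.classInner_irr_self ψ.2, mul_one, Finset.sum_congr rfl (fun x _ => by rw [hall x]), map_natCast,
    Finset.sum_const, Finset.card_univ, nsmul_eq_mul, ← Nat.card_eq_fintype_card, ← Nat.cast_mul, ← Nat.cast_mul,
    Nat.cast_inj] at h1
  have h2 : d * d = 1 := Nat.eq_of_mul_eq_mul_left (Nat.card_pos (α := G)) (h1.symm.trans (mul_one _).symm)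
  exact hne (funext fun x => by rw [hall x, Nat.eq_one_of_mul_eq_one_right h2, Nat.cast_one])

theorem detOrder_comp {G' : Type*} [Group G'] [Finite G'] {χ : G → ℂ} (hχ : IsCharacter G χ) (e : G' ≃* G) :
    detOrder (fun x => χ (e x)) = detOrder χ := by
  obtain ⟨n, ρ, rfl⟩ := hχ
  let ρ' : Representation ℂ G' (Fin n → ℂ) := ρ.comp e.toMonoidHom
  have hρ' : (fun x => ρ.character (e x)) = ρ'.character := rfl
  have h1 : detChar ρ'.character = fun x => detChar ρ.character (e x) := funext fun x => by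
    rw [CharExtend.detChar_character, CharExtend.detChar_character]; rfl
  unfold detOrder
  rw [hρ', h1]
  let Φ : (G → ℂ) →* (G' → ℂ) :=
    { toFun := fun f x => f (e x)
      map_one' := rfl
      map_mul' := fun _ _ => rfl }
  exact orderOf_injective Φ (fun f f' h => funext fun x => by simpa [Φ] using congrFun h (e.symm x)) _

end tools

/-- A normal subgroup of order prime to p on which an invariant character has no fixed point lies in the kernel. -/
theorem le_kerSub_of_fixedPointFree {C P : Type*} [Group C] [Finite C] [Group P] [Finite P] {p : ℕ}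
    [Fact p.Prime] (hP : IsPGroup p P) (β : IrrCharacter C) (hcop : ¬ p ∣ Nat.card C) (T : Subgroup C) [T.Normal]
    (φ : P →* MulAut T) (hfree : ∀ t : T, (∀ s, φ s t = t) → t = 1)
    (hinv : ∀ (s : P) (t : T), (β : C → ℂ) (φ s t : T) = (β : C → ℂ) t) : T ≤ Codegree.kerSub β := by
  classical
  by_contra hle
  haveI := Fintype.ofFinite T
  haveI := Fintype.ofFinite C
  letI : MulAction P T :=
    { smul := fun s t => φ s t
      one_smul := fun t => by show φ 1 t = t; simp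
      mul_smul := fun s s' t => by show φ (s * s') t = φ s (φ s' t); simp }
  have h := GlauberChar.cong_sum_fixed hP (fun t : T => (β : C → ℂ) t)
    (fun t => Char.IsCharacter.isIntegral (Char.IsIrrCharacter.isCharacter β.2) _) hinv
  rw [Codegree.sum_normal_eq_zero β T hle, Finset.sum_eq_single_of_mem (1 : T)
    (Finset.mem_filter.mpr ⟨Finset.mem_univ _, fun s => map_one (φ s)⟩)
    (fun t ht hne => absurd (hfree t fun s => ((Finset.mem_filter.mp ht).2 : ∀ s : P, s • t = t) s) hne)] at h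
  obtain ⟨n, -, hn, hdvd⟩ := Char.IsIrrCharacter.degree_dvd_card β.2
  rw [Subgroup.coe_one, hn] at h
  have h2 := GlauberChar.int_dvd_of_cong (Fact.out : p.Prime).ne_zero (a := 0) (b := (n : ℤ)) (by exact_mod_cast h)
  rw [zero_sub, dvd_neg, Int.natCast_dvd_natCast] at h2
  exact hcop (h2.trans hdvd)

variable {G : Type u} [Group G] [Finite G] {p : ℕ} [Fact p.Prime]

/-- In `G = K H` the commutators `[k, a]`, `a ∈ H` of order p, lie in the kernel of an invariant `ψ`. -/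
theorem commutator_mem_ker (hp2 : p ≠ 2) {H : Subgroup G} (hH : IsPGroup p H) (hab : IsMulCommutative H)
    (P : ∀ g : G, Pair p H g) (K : Subgroup G) [hKN : K.Normal] (hK : (Nat.card K).Coprime p)
    (hsplit : ∀ x : G, ∃ h ∈ H, x * h⁻¹ ∈ K) {a : G} (haH : a ∈ H) (hao : orderOf a = p)
    (hCa : Subgroup.normalClosure ((H.subgroupOf (Subgroup.centralizer ({a} : Set G))) : Set _) ⊓
        Subgroup.normalizer ((H.subgroupOf (Subgroup.centralizer ({a} : Set G))) : Set _) ≤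
      H.subgroupOf (Subgroup.centralizer ({a} : Set G)))
    (ψ : IrrCharacter K)
    (hψ : ∀ h ∈ H, ∀ k : K, (ψ : K → ℂ) ⟨h * k * h⁻¹, hKN.conj_mem k k.2 h⟩ = (ψ : K → ℂ) k) (k : K) :
    (ψ : K → ℂ) ⟨(k : G) * a * (k : G)⁻¹ * a⁻¹, by
      have := K.mul_mem k.2 (hKN.conj_mem _ (K.inv_mem k.2) a); simpa [mul_assoc] using this⟩ =
      (ψ : K → ℂ) 1 := by
  classical
  have hp : p.Prime := Fact.out
  haveI : IsMulCommutative H := hab
  have hcomm : ∀ x ∈ H, ∀ y ∈ H, x * y = y * x := fun x hx y hy =>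
    congrArg Subtype.val (mul_comm' (⟨x, hx⟩ : H) ⟨y, hy⟩)
  obtain ⟨b, hb⟩ : ∃ b, b = a * a := ⟨_, rfl⟩
  have hbH : b ∈ H := hb ▸ H.mul_mem haH haH
  have hodd := hp.odd_of_ne_two hp2
  have hab' : Subgroup.zpowers b = Subgroup.zpowers a := by
    refine le_antisymm (Subgroup.zpowers_le.mpr (hb ▸ Subgroup.mul_mem _ (Subgroup.mem_zpowers a)
      (Subgroup.mem_zpowers a))) (Subgroup.zpowers_le.mpr ?_)
    obtain ⟨j, hj⟩ := hodd
    refine ⟨(j + 1 : ℕ), ?_⟩
    show b ^ ((j + 1 : ℕ) : ℤ) = a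
    rw [zpow_natCast, hb, ← pow_two, ← pow_mul, show 2 * (j + 1) = p + 1 by omega, pow_succ, ← hao,
      pow_orderOf_eq_one, one_mul]
  have hbo : orderOf b = p := by rw [← Nat.card_zpowers, hab', Nat.card_zpowers, hao]
  -- `Γ = K ⟨a⟩`
  obtain ⟨Γ, hΓdef⟩ : ∃ Γ, Γ = K ⊔ Subgroup.zpowers a := ⟨_, rfl⟩
  have hKΓ : K ≤ Γ := hΓdef ▸ le_sup_left
  have haΓ : a ∈ Γ := hΓdef ▸ Subgroup.mem_sup_right (Subgroup.mem_zpowers a)
  have hbΓ : b ∈ Γ := hb ▸ Γ.mul_mem haΓ haΓ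
  have hmemΓ : ∀ x ∈ Γ, ∃ k0 ∈ K, ∃ t ∈ Subgroup.zpowers a, k0 * t = x := fun x hx => by
    rw [hΓdef] at hx
    exact Subgroup.mem_sup_of_normal_left.mp hx
  have hcommH : ∀ x : G, ∀ h ∈ H, x * h * x⁻¹ * h⁻¹ ∈ K := by
    intro x h hh
    obtain ⟨h0, hh0, hk0⟩ := hsplit x
    rw [show x * h * x⁻¹ * h⁻¹ = (x * h0⁻¹) * (h0 * h * h0⁻¹ * h⁻¹) * (h * (x * h0⁻¹)⁻¹ * h⁻¹) by group,
      hcomm h0 hh0 h hh, mul_inv_cancel_right, mul_inv_cancel, mul_one]
    exact K.mul_mem hk0 (hKN.conj_mem _ (K.inv_mem hk0) _)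
  haveI hΓN : Γ.Normal := ⟨fun x hx g => by
    obtain ⟨k0, hk0, t, ht, rfl⟩ := hmemΓ x hx
    have htH : t ∈ H := (Subgroup.zpowers_le.mpr haH) ht
    rw [show g * (k0 * t) * g⁻¹ = (g * k0 * g⁻¹) * (g * t * g⁻¹ * t⁻¹) * t by group]
    exact Γ.mul_mem (Γ.mul_mem (hKΓ (hKN.conj_mem _ hk0 g)) (hKΓ (hcommH g t htH)))
      (hΓdef ▸ Subgroup.mem_sup_right ht)⟩
  obtain ⟨G0, hG0⟩ : ∃ G0, G0 = K.subgroupOf Γ := ⟨_, rfl⟩
  obtain ⟨C0, hC0⟩ : ∃ C0, C0 = G0 ⊓ (Subgroup.centralizer ({a} : Set G)).subgroupOf Γ := ⟨_, rfl⟩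
  have hmemG0 : ∀ y : Γ, y ∈ G0 ↔ (y : G) ∈ K := fun y => by subst hG0; exact Subgroup.mem_subgroupOf
  haveI hG0N : G0.Normal := hG0 ▸ Subgroup.normal_subgroupOf
  have hcardG0 : Nat.card G0 = Nat.card K := hG0 ▸ Cores.card_subgroupOf hKΓ
  obtain ⟨s, hs⟩ : ∃ s : Γ, (s : G) = b := ⟨⟨b, hbΓ⟩, rfl⟩
  obtain ⟨a0, ha0⟩ : ∃ a0 : Γ, (a0 : G) = a := ⟨⟨a, haΓ⟩, rfl⟩
  have hza : Subgroup.zpowers a0 = Subgroup.zpowers s := by
    apply Subgroup.map_injective Γ.subtype_injective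
    rw [MonoidHom.map_zpowers, MonoidHom.map_zpowers, Subgroup.coe_subtype, ha0, hs, hab']
  have hso : orderOf s = p := by rw [← Subgroup.orderOf_coe, hs, hbo]
  have hCyc : GlauberChar.Cyc G0 s C0 := by
    refine ⟨hG0N, ?_, ?_, fun x => ?_⟩
    · rw [hcardG0, hso]; exact hK
    · rw [eq_top_iff]
      rintro x -
      obtain ⟨k0, hk0, t, ht, he⟩ := hmemΓ x x.2
      rw [show x = ⟨k0, hKΓ hk0⟩ * ⟨t, hΓdef ▸ Subgroup.mem_sup_right ht⟩ from Subtype.ext he.symm]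
      refine Subgroup.mul_mem_sup (hG0 ▸ hk0) ?_
      rw [← hab', Subgroup.mem_zpowers_iff] at ht
      obtain ⟨j, hj⟩ := ht
      exact ⟨j, Subtype.ext (by push_cast; rw [hs, hj])⟩
    · rw [hC0, Subgroup.mem_inf, Subgroup.mem_subgroupOf, Subgroup.mem_centralizer_singleton_iff, Subtype.ext_iff]
      push_cast
      rw [hs]
      refine and_congr_right fun _ => ⟨fun h => ?_, fun h => ?_⟩
      · rw [hb]; exact ((show Commute (x : G) a from h).mul_right h).eq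
      · have ha' : a ∈ Subgroup.zpowers b := hab' ▸ Subgroup.mem_zpowers a
        obtain ⟨j, hj⟩ := ha'
        rw [← hj]
        exact ((show Commute (x : G) b from h).zpow_right j).eq
  haveI := Fintype.ofFinite Γ
  haveI := Fintype.ofFinite G0
  haveI := Fintype.ofFinite C0
  -- the character on `G0`
  obtain ⟨ψ0, hψ0, hψ0irr⟩ : ∃ ψ0 : G0 → ℂ, (∀ (x : G0) (hx : ((x : Γ) : G) ∈ K),
      ψ0 x = (ψ : K → ℂ) ⟨((x : Γ) : G), hx⟩) ∧ IsIrrCharacter G0 ψ0 := by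
    subst hG0
    exact ⟨fun x => (ψ : K → ℂ) (Subgroup.subgroupOfEquivOfLe hKΓ x), fun x hx => rfl,
      Char.IsIrrCharacter.comp_equiv ψ.2 (Subgroup.subgroupOfEquivOfLe hKΓ)⟩
  have hmemK : ∀ x : G0, ((x : Γ) : G) ∈ K := fun x => by
    have := x.2
    simp only [hG0, Subgroup.mem_subgroupOf] at this
    exact this
  have hψcl : ∀ (g : G) (k0 : K), (ψ : K → ℂ) ⟨g * k0 * g⁻¹, hKN.conj_mem k0 k0.2 g⟩ = (ψ : K → ℂ) k0 := by
    intro g k0
    obtain ⟨h0, hh0, hk⟩ := hsplit g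
    rw [show (⟨g * k0 * g⁻¹, hKN.conj_mem k0 k0.2 g⟩ : K) =
      ⟨g * h0⁻¹, hk⟩ * ⟨h0 * k0 * h0⁻¹, hKN.conj_mem k0 k0.2 h0⟩ * ⟨g * h0⁻¹, hk⟩⁻¹ from
        Subtype.ext (by push_cast; group), Char.IsIrrCharacter.isClassFunction ψ.2, hψ h0 hh0]
  obtain ⟨χ, ⟨hχ, hχres⟩, -⟩ := hCyc.exists_canon hψ0irr fun x g => by
    rw [hψ0 _ (hKN.conj_mem _ (hmemK g) x), hψ0 g (hmemK g)]
    exact hψcl x ⟨_, hmemK g⟩
  have hχchar := Char.IsIrrCharacter.isCharacter hχ.1
  -- invariance under `H`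
  have hχinv : ∀ h ∈ H, ∀ x : Γ, χ ⟨h * x * h⁻¹, hΓN.conj_mem x x.2 h⟩ = χ x := by
    intro h hh
    obtain ⟨e, he⟩ : ∃ e : Γ ≃* Γ, ∀ x : Γ, ((e x : Γ) : G) = h * x * h⁻¹ :=
      ⟨(MulAut.conjNormal h : MulAut Γ), fun x => MulAut.conjNormal_apply _ _⟩
    have heq : (fun x => χ (e x)) = χ := by
      refine hCyc.canon_unique ⟨Char.IsIrrCharacter.comp_equiv hχ.1 e, ?_, ?_⟩ hχ fun g => ?_
      · have : (fun g : G0 => χ (e g)) = fun g : G0 => χ g := funext fun g => by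
          have hg : e g ∈ G0 := by
            rw [hmemG0, he]; exact hKN.conj_mem _ (hmemK g) h
          rw [show (e (g : Γ)) = ((⟨e g, hg⟩ : G0) : Γ) from rfl, hχres, hχres, hψ0 _ (hmemK _),
            hψ0 _ (hmemK _)]
          rw [show (⟨(((⟨e g, hg⟩ : G0) : Γ) : G), hmemK _⟩ : K) =
            ⟨h * (⟨_, hmemK g⟩ : K) * h⁻¹, hKN.conj_mem _ (hmemK g) h⟩ from Subtype.ext (he g)]
          exact hψcl h ⟨_, hmemK g⟩
        rw [this]; exact hχ.2.1
      · rw [detOrder_comp hχchar e]; exact hχ.2.2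
      · have hg : e g ∈ G0 := by
          rw [hmemG0, he]; exact hKN.conj_mem _ (hmemK g) h
        rw [show (e (g : Γ)) = ((⟨e g, hg⟩ : G0) : Γ) from rfl, hχres, hχres, hψ0 _ (hmemK _),
          hψ0 _ (hmemK _)]
        rw [show (⟨(((⟨e g, hg⟩ : G0) : Γ) : G), hmemK _⟩ : K) =
          ⟨h * (⟨_, hmemK g⟩ : K) * h⁻¹, hKN.conj_mem _ (hmemK g) h⟩ from Subtype.ext (he g)]
        exact hψcl h ⟨_, hmemK g⟩
    intro x
    rw [show (⟨h * x * h⁻¹, hΓN.conj_mem x x.2 h⟩ : Γ) = e x from Subtype.ext (he x).symm]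
    exact congrFun heq x
  obtain ⟨β, ε, hε, hval⟩ := hCyc.exists_value hχ
  -- `θ`, the normal closure of `H` in `C(a)` met with `K`
  obtain ⟨Ca, hCadef⟩ : ∃ Ca, Ca = Subgroup.centralizer ({a} : Set G) := ⟨_, rfl⟩
  rw [← hCadef] at hCa
  have hHCa : H ≤ Ca := fun h hh => by
    rw [hCadef, Subgroup.mem_centralizer_singleton_iff]; exact hcomm h hh a haH
  obtain ⟨θ, hθdef⟩ : ∃ θ, θ = (Subgroup.normalClosure ((H.subgroupOf Ca : Subgroup Ca) : Set Ca)).map Ca.subtype ⊓ K :=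
    ⟨_, rfl⟩
  have hθK : θ ≤ K := hθdef ▸ inf_le_right
  have hθC : θ ≤ Ca := hθdef ▸ inf_le_left.trans (Subgroup.map_subtype_le _)
  have hθnorm : ∀ c ∈ Ca, ∀ t ∈ θ, c * t * c⁻¹ ∈ θ := by
    intro c hc t ht
    rw [hθdef] at ht ⊢
    obtain ⟨⟨t', ht', rfl⟩, htK⟩ := ht
    exact ⟨⟨⟨c, hc⟩ * t' * ⟨c, hc⟩⁻¹, Subgroup.normalClosure_normal.conj_mem t' ht' _, rfl⟩,
      hKN.conj_mem _ htK c⟩
  obtain ⟨T, hT⟩ : ∃ T, T = (θ.subgroupOf Γ).subgroupOf C0 := ⟨_, rfl⟩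
  have hC0mem : ∀ c : C0, ((c : Γ) : G) ∈ Ca := fun c => by
    have := c.2
    simp only [hC0, Subgroup.mem_inf, Subgroup.mem_subgroupOf] at this
    rw [hCadef]; exact this.2
  have hmemT : ∀ c : C0, c ∈ T ↔ ((c : Γ) : G) ∈ θ := fun c => by rw [hT, Subgroup.mem_subgroupOf, Subgroup.mem_subgroupOf]
  haveI hTN : T.Normal := ⟨fun t ht c => by
    rw [hmemT] at ht ⊢
    push_cast
    exact hθnorm _ (hC0mem c) _ ht⟩
  have hθΓ : ∀ t ∈ θ, t ∈ Γ := fun t ht => hKΓ (hθK ht)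
  have hθC0 : ∀ t (ht : t ∈ θ), (⟨t, hθΓ t ht⟩ : Γ) ∈ C0 := fun t ht => by
    rw [hC0, Subgroup.mem_inf, Subgroup.mem_subgroupOf, hG0, Subgroup.mem_subgroupOf]
    exact ⟨hθK ht, hCadef ▸ hθC ht⟩
  let act : H →* MulAut T :=
    { toFun := fun h =>
        { toFun := fun t => ⟨⟨⟨(h : G) * (((t : C0) : Γ) : G) * (h : G)⁻¹,
              hθΓ _ (hθnorm _ (hHCa h.2) _ ((hmemT _).mp t.2))⟩,
              hθC0 _ (hθnorm _ (hHCa h.2) _ ((hmemT _).mp t.2))⟩,
            (hmemT _).mpr (hθnorm _ (hHCa h.2) _ ((hmemT _).mp t.2))⟩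
          invFun := fun t => ⟨⟨⟨(h : G)⁻¹ * (((t : C0) : Γ) : G) * (h : G)⁻¹⁻¹,
              hθΓ _ (hθnorm _ (hHCa (H.inv_mem h.2)) _ ((hmemT _).mp t.2))⟩,
              hθC0 _ (hθnorm _ (hHCa (H.inv_mem h.2)) _ ((hmemT _).mp t.2))⟩,
            (hmemT _).mpr (hθnorm _ (hHCa (H.inv_mem h.2)) _ ((hmemT _).mp t.2))⟩
          left_inv := fun t => Subtype.ext (Subtype.ext (Subtype.ext (by push_cast; group)))
          right_inv := fun t => Subtype.ext (Subtype.ext (Subtype.ext (by push_cast; group)))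
          map_mul' := fun t t' => Subtype.ext (Subtype.ext (Subtype.ext (by push_cast; group))) }
      map_one' := MulEquiv.ext fun t => Subtype.ext (Subtype.ext (Subtype.ext (by
        show ((1 : H) : G) * _ * ((1 : H) : G)⁻¹ = _
        simp)))
      map_mul' := fun h h' => MulEquiv.ext fun t => Subtype.ext (Subtype.ext (Subtype.ext (by
        show ((h * h' : H) : G) * _ * ((h * h' : H) : G)⁻¹ = (h : G) * ((h' : G) * _ * (h' : G)⁻¹) * (h : G)⁻¹
        simp [mul_assoc]))) }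
  have hCcop : ¬ p ∣ Nat.card C0 := fun h => by
    have h1 : Nat.card C0 ∣ Nat.card G0 := Subgroup.card_dvd_of_le (hC0 ▸ inf_le_left)
    exact hp.coprime_iff_not_dvd.mp hK.symm (hcardG0 ▸ h.trans h1)
  have hker : T ≤ Codegree.kerSub β := by
    refine le_kerSub_of_fixedPointFree hH β hCcop T act (fun t ht => ?_) fun h t => ?_
    · obtain ⟨x, hx⟩ : ∃ x, x = (((t : C0) : Γ) : G) := ⟨_, rfl⟩
      have hxθ : x ∈ θ := hx ▸ (hmemT _).mp t.2
      have hfix : ∀ h ∈ H, h * x * h⁻¹ = x := fun h hh => by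
        have := congrArg (fun z : T => (((z : C0) : Γ) : G)) (ht ⟨h, hh⟩)
        rw [hx]; exact this
      have h2 : x ∈ (Subgroup.normalClosure ((H.subgroupOf Ca : Subgroup Ca) : Set Ca)).map Ca.subtype :=
        (hθdef.le hxθ).1
      obtain ⟨x', hx', hxe⟩ := h2
      have h3 : x' ∈ H.subgroupOf Ca := hCa ⟨hx', Subgroup.mem_normalizer_fintype fun h hh => by
        show ((x' * h * x'⁻¹ : Ca) : G) ∈ H
        push_cast
        rw [show (x' : G) = x from hxe, ← mul_inv_eq_iff_eq_mul.mp (hfix h hh), mul_inv_cancel_right]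
        exact hh⟩
      have h4 : x ∈ H := hxe ▸ h3
      have h5 : x = 1 := eq_one_of_pGroup_of_coprime hH hK h4 (hθK hxθ)
      exact Subtype.ext (Subtype.ext (Subtype.ext (hx ▸ h5)))
    · obtain ⟨t', ht'⟩ : ∃ t' : T, t' = act h t := ⟨_, rfl⟩
      have e1 := hval (t : C0)
      have e2 := hval (t' : C0)
      have e3 : χ (((t' : C0) : Γ) * s) = χ (((t : C0) : Γ) * s) := by
        rw [← hχinv h h.2 (((t : C0) : Γ) * s)]
        congr 1
        apply Subtype.ext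
        push_cast
        rw [ht']
        show (h : G) * (((t : C0) : Γ) : G) * (h : G)⁻¹ * (s : G) = _
        rw [hs, mul_assoc, show (h : G)⁻¹ * b = b * (h : G)⁻¹ from hcomm _ (H.inv_mem h.2) _ hbH]
        group
      rw [e1, e2] at e3
      rw [← ht']
      exact mul_left_cancel₀ (by rcases hε with rfl | rfl <;> simp) e3
  have hgen : ∀ s' : Γ, Subgroup.zpowers s' = Subgroup.zpowers s → χ s' = χ s := fun s' h => by
    have := hCyc.apply_generator hχ h (1 : C0)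
    simpa using this
  have hprod : ∀ g : Γ, χ (g * a0 * g⁻¹ * a0) = χ a0 := by
    intro g
    rw [hgen a0 hza]
    obtain ⟨z, hz⟩ : ∃ z, z = (P g).twist hH ⟨a, haH⟩ := ⟨_, rfl⟩
    have hPK : (P g).K ≤ K := by
      intro x hx
      obtain ⟨h0, hh0, hk0⟩ := hsplit x
      have e : QuotientGroup.mk' K x = QuotientGroup.mk' K h0 := by
        refine mul_inv_eq_one.mp ?_
        rw [← map_inv, ← map_mul]
        exact (QuotientGroup.eq_one_iff _).mpr hk0
      obtain ⟨n, hn⟩ := hH.exists_card_eq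
      have o1 : orderOf (QuotientGroup.mk' K x) ∣ Nat.card (P g).K :=
        (orderOf_map_dvd _ _).trans (Subgroup.orderOf_dvd_natCard _ hx)
      have o2 : orderOf (QuotientGroup.mk' K x) ∣ p ^ n := by
        rw [e, ← hn]; exact (orderOf_map_dvd _ _).trans (Subgroup.orderOf_dvd_natCard H hh0)
      exact (QuotientGroup.eq_one_iff _).mp
        (orderOf_eq_one_iff.mp (Nat.eq_one_of_dvd_coprimes ((P g).cop.symm.pow_left n) o2 o1))
    have hk1 : (g : G) * a * (g : G)⁻¹ * (z : G)⁻¹ ∈ (P g).K := hz ▸ (P g).twist_spec hH ⟨a, haH⟩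
    have hza' : (z : G) = a := by
      refine mul_inv_eq_one.mp (eq_one_of_pGroup_of_coprime hH hK (H.mul_mem z.2 (H.inv_mem haH)) ?_)
      rw [show (z : G) * a⁻¹ = ((g : G) * a * (g : G)⁻¹ * (z : G)⁻¹)⁻¹ * ((g : G) * a * (g : G)⁻¹ * a⁻¹) by group]
      exact K.mul_mem (K.inv_mem (hPK hk1)) (hcommH g a haH)
    rw [hza'] at hk1
    have hk2 : a * ((g : G) * a * (g : G)⁻¹ * a⁻¹) * a⁻¹ ∈ (P g).K := (P g).H_norm haH hk1
    obtain ⟨x, y, hxK, hy, hcy, he⟩ := (P g).exists_conj_eq' hH hab hbH hk2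
    have hxΓ : x ∈ Γ := hKΓ (hPK hxK)
    have hyC : y ∈ Ca := by
      rw [hCadef, Subgroup.mem_centralizer_singleton_iff]
      have ha' : a ∈ Subgroup.zpowers b := hab' ▸ Subgroup.mem_zpowers a
      obtain ⟨j, hj⟩ := ha'
      rw [← hj]
      exact (hcy.symm.zpow_right j).eq
    have hyθ : y ∈ θ := by
      refine (P g).mem_of_commutators hH (fun h hh t ht => hθnorm h (hHCa hh) t ht) hy fun h hh => ?_
      rw [hθdef]
      refine ⟨?_, hPK (by simpa [mul_assoc] using (P g).K.mul_mem ((P g).K.inv_mem hy) ((P g).H_norm hh hy))⟩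
      refine ⟨(⟨y, hyC⟩ : Ca)⁻¹ * ⟨h, hHCa hh⟩ * (⟨y, hyC⟩ : Ca) * (⟨h, hHCa hh⟩ : Ca)⁻¹, ?_, rfl⟩
      refine Subgroup.mul_mem _ ?_ (Subgroup.inv_mem _ (Subgroup.subset_normalClosure (show h ∈ H from hh)))
      have := Subgroup.normalClosure_normal.conj_mem (⟨h, hHCa hh⟩ : Ca)
        (Subgroup.subset_normalClosure (s := ((H.subgroupOf Ca : Subgroup Ca) : Set Ca)) (show h ∈ H from hh))
        (⟨y, hyC⟩ : Ca)⁻¹
      rwa [inv_inv] at this
    obtain ⟨c, hc⟩ : ∃ c : C0, ((c : Γ) : G) = y := ⟨⟨_, hθC0 y hyθ⟩, rfl⟩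
    have e1 : χ (g * a0 * g⁻¹ * a0) = χ ((c : Γ) * s) := by
      rw [← Char.IsIrrCharacter.isClassFunction hχ.1 (g * a0 * g⁻¹ * a0) (⟨x, hxΓ⟩ * a0)]
      congr 1
      apply Subtype.ext
      push_cast
      rw [hc, hs, ha0, ← hcy.eq, ← he, hb]
      group
    have e2 : χ s = (ε : ℂ) * (β : C0 → ℂ) 1 := by simpa using hval 1
    rw [e1, hval c, e2, hker ((hmemT c).mpr (by rw [hc]; exact hyθ))]
  -- `χ(a)² = d χ(a)`
  obtain ⟨n, ρ, hirr, hρ⟩ := hχ.1
  obtain ⟨d, hd0, hd⟩ := Char.IsIrrCharacter.exists_degree hχ.1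
  have hsum := CharApp.sum_char_conj_mul ρ a0 a0
  rw [hρ, Finset.sum_congr rfl (fun g _ => hprod g), Finset.sum_const, Finset.card_univ, nsmul_eq_mul,
    ← Nat.card_eq_fintype_card] at hsum
  have hdim : (Module.finrank ℂ (Fin n → ℂ) : ℂ) = d := by rw [← hd, ← hρ]; exact (Representation.char_one ρ).symm
  rw [hdim] at hsum
  have hcard : (Nat.card Γ : ℂ) ≠ 0 := Nat.cast_ne_zero.2 Nat.card_pos.ne'
  have hdC : (d : ℂ) ≠ 0 := Nat.cast_ne_zero.2 (by omega)
  have hor : χ a0 = 0 ∨ χ a0 = d := by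
    rw [eq_div_iff hdC] at hsum
    have h : (Nat.card Γ : ℂ) * (χ a0 * (χ a0 - d)) = 0 := by linear_combination -hsum
    rcases mul_eq_zero.mp ((mul_eq_zero.mp h).resolve_left hcard) with h | h
    · exact Or.inl h
    · exact Or.inr (sub_eq_zero.mp h)
  have hne : χ a0 ≠ 0 := by
    intro h0
    haveI := Fintype.ofFinite (Subgroup.zpowers a0)
    have h := CharApp.sum_char_eq_card_mul (ρ.comp (Subgroup.zpowers a0).subtype)
    rw [Finset.sum_eq_single_of_mem (1 : Subgroup.zpowers a0) (Finset.mem_univ _) ?_] at h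
    · have e1 : Representation.character (ρ.comp (Subgroup.zpowers a0).subtype) (1 : Subgroup.zpowers a0) = (d : ℂ) := by
        rw [Representation.char_one, hdim]
      rw [e1, Nat.card_zpowers, ← Subgroup.orderOf_coe, ha0, hao, ← Nat.cast_mul, Nat.cast_inj] at h
      obtain ⟨m, hm0, hm, hmdvd⟩ := Char.IsIrrCharacter.degree_dvd_card hψ0irr
      have h1 : (d : ℂ) = m := by rw [← hd, ← hm, ← hχres 1]; rfl
      rw [Nat.cast_inj] at h1
      have h2 : p ∣ Nat.card G0 := (h1 ▸ Dvd.intro _ h.symm : p ∣ m).trans hmdvd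
      rw [hcardG0] at h2
      exact hp.coprime_iff_not_dvd.mp hK.symm h2
    · intro t _ ht
      show ρ.character (t : Γ) = 0
      rw [hρ, ← h0, hgen a0 hza]
      refine hgen _ (hza ▸ ?_)
      refine Subgroup.eq_of_le_of_card_ge (Subgroup.zpowers_le.mpr t.2) ?_
      have ho : orderOf (t : Γ) ∣ p := by
        rw [← hao, ← ha0, Subgroup.orderOf_coe a0]
        exact orderOf_dvd_of_mem_zpowers t.2
      rw [Nat.card_zpowers, Nat.card_zpowers, ← Subgroup.orderOf_coe a0, ha0, hao]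
      rcases hp.eq_one_or_self_of_dvd _ ho with h | h
      · exact absurd (Subtype.ext (orderOf_eq_one_iff.mp h) : t = 1) ht
      · exact h.ge
  have had := hor.resolve_left hne
  have hρa : ρ a0 = 1 := (Char.character_eq_finrank_iff ρ a0).1 (by rw [hρ, had, hdim])
  obtain ⟨k', hk'⟩ : ∃ k' : Γ, (k' : G) = k := ⟨⟨k, hKΓ k.2⟩, rfl⟩
  have hwK : k' * a0 * k'⁻¹ * a0⁻¹ ∈ G0 := by
    rw [hmemG0]; push_cast; rw [hk', ha0]
    exact hcommH k a haH
  have hρa' : ρ a0⁻¹ = 1 := by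
    have := map_mul ρ a0 a0⁻¹
    rwa [mul_inv_cancel, map_one, hρa, one_mul, eq_comm] at this
  have hw : χ (k' * a0 * k'⁻¹ * a0⁻¹) = χ 1 := by
    rw [← hρ]
    simp only [Representation.character, map_mul, hρa, hρa', mul_one]
    rw [← map_mul, mul_inv_cancel]
  have h1 := hχres ⟨_, hwK⟩
  have h2 := hχres 1
  rw [hψ0 _ (hmemK _)] at h1 h2
  simp only [Subgroup.coe_one] at h2
  calc (ψ : K → ℂ) _ = χ (k' * a0 * k'⁻¹ * a0⁻¹) := by
        rw [h1]; exact congrArg (ψ : K → ℂ) (Subtype.ext (by push_cast; rw [hk', ha0]))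
    _ = (ψ : K → ℂ) 1 := by rw [hw, h2]; rfl

theorem closure_inf_normalizer_aux (n : ℕ) :
    ∀ (G : Type u) [Group G] [Finite G] (p : ℕ) [Fact p.Prime], p ≠ 2 → ∀ H : Subgroup G, Nat.card G = n →
      IsPGroup p H → IsMulCommutative H → IsExtremelyClosed H →
      Subgroup.normalClosure (H : Set G) ⊓ Subgroup.normalizer (H : Set G) ≤ H := by
  induction n using Nat.strong_induction_on with
  | _ n ih =>
  intro G _ _ p _ hp2 H hn hH hab hcl
  classical
  have hp : p.Prime := Fact.out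
  haveI : IsMulCommutative H := hab
  have hcomm : ∀ a ∈ H, ∀ b ∈ H, a * b = b * a := fun a ha b hb =>
    congrArg Subtype.val (mul_comm' (⟨a, ha⟩ : H) ⟨b, hb⟩)
  obtain ⟨P⟩ : Nonempty (∀ g : G, Pair p H g) := Classical.nonempty_pi.mpr fun g => exists_pair hH hab hcl g
  have hsubgroup : ∀ C : Subgroup G, C ≠ ⊤ → H ≤ C →
      Subgroup.normalClosure ((H.subgroupOf C : Subgroup C) : Set C) ⊓
        Subgroup.normalizer ((H.subgroupOf C : Subgroup C) : Set C) ≤ H.subgroupOf C := by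
    intro C hC hHC
    refine ih (Nat.card C) (hn ▸ ?_) C p hp2 _ rfl hH.comap_subtype ?_ (extremelyClosed_subgroupOf hcl hHC)
    · exact lt_of_le_of_ne (Subgroup.card_le_card_group C) fun e => hC (Subgroup.eq_top_of_card_eq C e)
    · exact ⟨⟨fun a b => Subtype.ext (Subtype.ext (hcomm _ a.2 _ b.2))⟩⟩
  by_cases hL : Subgroup.normalClosure (H : Set G) ≠ ⊤
  · obtain ⟨L, hLdef⟩ : ∃ L, L = Subgroup.normalClosure (H : Set G) := ⟨_, rfl⟩
    haveI : L.Normal := hLdef ▸ Subgroup.normalClosure_normal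
    have hHL : H ≤ L := hLdef ▸ Subgroup.le_normalClosure
    rintro x ⟨hx, hxN⟩
    obtain ⟨x', hx', rfl⟩ := normalClosure_le_map P hH hHL hx
    exact hsubgroup L (hLdef ▸ hL) hHL ⟨hx', Subgroup.mem_normalizer_fintype fun h hh =>
      (Subgroup.mem_normalizer_iff.mp hxN (h : G)).mp hh⟩
  push Not at hL
  obtain ⟨O, hOdef⟩ : ∃ O, O = pPrimeCore p G := ⟨_, rfl⟩
  haveI hON : O.Normal := hOdef ▸ Cores.pPrimeCore_normal p G
  have hOcop : (Nat.card O).Coprime p := hOdef ▸ Cores.coprime_card_pPrimeCore p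
  have hsplit : ∀ x : G, ∃ h ∈ H, x * h⁻¹ ∈ O := by
    intro x
    have hx : x ∈ O ⊔ H := by
      rw [sup_comm, hOdef]
      exact normalClosure_le hH hab hcl (hL ▸ Subgroup.mem_top x)
    obtain ⟨o, ho, h, hh, rfl⟩ := Subgroup.mem_sup_of_normal_left.mp hx
    exact ⟨h, hh, by rwa [mul_inv_cancel_right]⟩
  suffices hD : ∀ d ∈ O, (∀ h ∈ H, Commute h d) → d = 1 by
    rintro x ⟨-, hxN⟩
    obtain ⟨h0, hh0, hd⟩ := hsplit x
    have hdN : x * h0⁻¹ ∈ Subgroup.normalizer (H : Set G) :=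
      Subgroup.mul_mem _ hxN (Subgroup.le_normalizer (H.inv_mem hh0))
    have hone : x * h0⁻¹ = 1 := hD _ hd fun h hh => by
      obtain ⟨d, hddef⟩ : ∃ d, d = x * h0⁻¹ := ⟨_, rfl⟩
      rw [← hddef] at hdN hd ⊢
      have h1 : d * h * d⁻¹ * h⁻¹ ∈ H := H.mul_mem ((Subgroup.mem_normalizer_iff.mp hdN h).mp hh) (H.inv_mem hh)
      have h2 : d * h * d⁻¹ * h⁻¹ ∈ O := by
        have := O.mul_mem hd (hON.conj_mem _ (O.inv_mem hd) h); simpa [mul_assoc] using this
      exact (mul_inv_eq_iff_eq_mul.mp (mul_inv_eq_one.mp (eq_one_of_pGroup_of_coprime hH hOcop h1 h2))).symm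
    rw [mul_inv_eq_one.mp hone]; exact hh0
  intro d hdO hdc
  by_contra hd1
  have hquot : ∀ (N : Subgroup G) [N.Normal], N ≠ ⊥ → (N ≤ H ∨ (Nat.card N).Coprime p) →
      ∀ x ∈ O, (∀ h ∈ H, Commute h x) → QuotientGroup.mk' N x ∈ H.map (QuotientGroup.mk' N) := by
    intro N _ hN hcase x _ hxc
    have hlt : Nat.card (G ⧸ N) < n := by
      rw [← hn, Subgroup.card_eq_card_quotient_mul_card_subgroup N]
      refine lt_mul_of_one_lt_right Nat.card_pos ?_
      exact lt_of_le_of_ne Nat.card_pos (fun h => hN (Subgroup.card_eq_one.mp h.symm))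
    obtain ⟨f, hf⟩ : ∃ f, f = QuotientGroup.mk' N := ⟨_, rfl⟩
    have hfs : Function.Surjective f := hf ▸ QuotientGroup.mk'_surjective _
    rw [← hf]
    refine ih _ hlt (G ⧸ N) p hp2 (H.map f) rfl (hH.map f) ⟨⟨fun a b => Subtype.ext (by
        obtain ⟨y, hy, hy'⟩ := a.2
        obtain ⟨z, hz, hz'⟩ := b.2
        rw [Subgroup.coe_mul, Subgroup.coe_mul, ← hy', ← hz', ← map_mul, ← map_mul, hcomm y hy z hz])⟩⟩ ?_ ⟨?_, ?_⟩
    · rw [hf]
      rcases hcase with h | h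
      · exact extremelyClosed_quotient hcl h
      · exact extremelyClosed_quotient_coprime hH hab hcl h
    · rw [Subgroup.coe_map, ← Subgroup.map_normalClosure _ f hfs, hL, Subgroup.map_top_of_surjective f hfs]
      exact Subgroup.mem_top _
    · refine Subgroup.mem_normalizer_fintype ?_
      rintro _ ⟨h, hh, rfl⟩
      refine ⟨h, hh, ?_⟩
      rw [← map_mul, ← map_inv, ← map_mul]
      congr 1
      rw [← (hxc h hh).eq, mul_inv_cancel_right]
  by_cases hZ : ∃ z ∈ H, z ≠ 1 ∧ z ∈ Subgroup.center G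
  · obtain ⟨z, hzH, hz1, hzc⟩ := hZ
    haveI : (Subgroup.zpowers z).Normal := ⟨fun a ha g => by
      have : g * a = a * g := Subgroup.mem_center_iff.mp ((Subgroup.zpowers_le.mpr hzc) ha) g
      rw [this, mul_inv_cancel_right]; exact ha⟩
    obtain ⟨h, hh, he⟩ := hquot (Subgroup.zpowers z) (by rwa [Subgroup.zpowers_ne_bot])
      (Or.inl (Subgroup.zpowers_le.mpr hzH)) d hdO hdc
    have h1 : h⁻¹ * d ∈ Subgroup.zpowers z := QuotientGroup.eq.mp he
    have h2 := H.mul_mem hh ((Subgroup.zpowers_le.mpr hzH) h1)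
    rw [mul_inv_cancel_left] at h2
    exact hd1 (eq_one_of_pGroup_of_coprime hH hOcop h2 hdO)
  push Not at hZ
  -- a nontrivial fixed character
  haveI := Fintype.ofFinite O
  obtain ⟨φ, hφ⟩ : ∃ φ : H →* MulAut O, φ = MulAut.conjNormal.comp H.subtype := ⟨_, rfl⟩
  have hφval : ∀ (h : H) (o : O), ((φ h o : O) : G) = (h : G) * o * (h : G)⁻¹ := fun h o => by
    rw [hφ]; exact MulAut.conjNormal_apply _ _
  have hOp : ¬ p ∣ Nat.card O := hp.coprime_iff_not_dvd.mp hOcop.symm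
  haveI := Fintype.ofFinite (GlauberChar.fixedSub φ)
  have hdfix : (⟨d, hdO⟩ : O) ∈ GlauberChar.fixedSub φ := fun h => Subtype.ext (by
    rw [hφval, (hdc h h.2).eq, mul_inv_cancel_right])
  obtain ⟨ψ, hψfix, hψne⟩ : ∃ ψ : IrrCharacter O, GlauberChar.IsFixed φ (ψ : O → ℂ) ∧
      (ψ : O → ℂ) ≠ fun _ => 1 := by
    have hnc : ¬ IsConj (1 : GlauberChar.fixedSub φ) ⟨⟨d, hdO⟩, hdfix⟩ := fun h => hd1 (by
      have := isConj_one_right.mp h
      exact congrArg (fun z : GlauberChar.fixedSub φ => ((z : O) : G)) this)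
    rw [Char.isConj_iff_irr] at hnc
    push Not at hnc
    obtain ⟨β, hβ⟩ := hnc
    obtain ⟨χ, hχfix, hχm⟩ := GlauberChar.exists_fixed_of_irr φ hH hOp β
    refine ⟨χ, hχfix, fun h1 => ?_⟩
    apply hχm
    have h0 : classInner (fun c : GlauberChar.fixedSub φ => (χ : O → ℂ) c) (β : _ → ℂ) = ((0 : ℕ) : ℂ) := by
      rw [h1, Nat.cast_zero]
      refine Char.classInner_irr_of_ne Char.isIrrCharacter_one β.2 fun h => hβ ?_
      rw [← h]
    rw [GlauberChar.mult_eq_of_classInner φ h0]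
    exact dvd_zero p
  have hψ : ∀ h ∈ H, ∀ k : O, (ψ : O → ℂ) ⟨h * k * h⁻¹, hON.conj_mem k k.2 h⟩ = (ψ : O → ℂ) k := fun h hh k => by
    have := hψfix ⟨h, hh⟩ k
    rwa [show φ ⟨h, hh⟩ k = ⟨h * k * h⁻¹, hON.conj_mem k k.2 h⟩ from Subtype.ext (hφval _ _)] at this
  have hψcl : ∀ (g : G) (k0 : O), (ψ : O → ℂ) ⟨g * k0 * g⁻¹, hON.conj_mem k0 k0.2 g⟩ = (ψ : O → ℂ) k0 := by
    intro g k0
    obtain ⟨h0, hh0, hk⟩ := hsplit g
    rw [show (⟨g * k0 * g⁻¹, hON.conj_mem k0 k0.2 g⟩ : O) =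
      ⟨g * h0⁻¹, hk⟩ * ⟨h0 * k0 * h0⁻¹, hON.conj_mem k0 k0.2 h0⟩ * ⟨g * h0⁻¹, hk⟩⁻¹ from
        Subtype.ext (by push_cast; group), Char.IsIrrCharacter.isClassFunction ψ.2, hψ h0 hh0]
  obtain ⟨N, hNdef⟩ : ∃ N, N = (Codegree.kerSub ψ).map O.subtype := ⟨_, rfl⟩
  haveI hNN : N.Normal := ⟨fun x hx g => by
    rw [hNdef] at hx ⊢
    obtain ⟨k0, hk0, rfl⟩ := hx
    exact ⟨⟨g * k0 * g⁻¹, hON.conj_mem k0 k0.2 g⟩, (hψcl g k0).trans hk0, rfl⟩⟩
  haveI : Nontrivial H := by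
    rw [Subgroup.nontrivial_iff_ne_bot]
    intro hbot
    refine hd1 ?_
    have htop : (⊤ : Subgroup G) ≤ ⊥ := by
      rw [← hL, hbot, Subgroup.coe_bot]
      exact Subgroup.normalClosure_le_normal (by simp)
    exact Subgroup.mem_bot.mp (htop (Subgroup.mem_top d))
  obtain ⟨⟨a, haH⟩, hao⟩ := exists_prime_orderOf_dvd_card' (G := H) p (by
    obtain ⟨i, hi⟩ := hH.exists_card_eq
    rw [hi]
    refine dvd_pow_self p fun h => ?_
    rw [h, pow_zero] at hi
    exact absurd hi (Finite.one_lt_card_iff_nontrivial.mpr inferInstance).ne')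
  rw [Subgroup.orderOf_mk] at hao
  have hCtop : Subgroup.centralizer ({a} : Set G) ≠ ⊤ := fun e => hZ a haH
    (fun h => hp.ne_one (by rw [← hao, h, orderOf_one])) (Subgroup.mem_center_iff.mpr fun g =>
      Subgroup.mem_centralizer_singleton_iff.mp (e ▸ Subgroup.mem_top g))
  have hHC : H ≤ Subgroup.centralizer ({a} : Set G) := fun h hh =>
    Subgroup.mem_centralizer_singleton_iff.mpr (hcomm h hh a haH)
  have hkey := commutator_mem_ker hp2 hH hab P O hOcop hsplit haH hao (hsubgroup _ hCtop hHC) ψ hψ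
  have hN : N ≠ ⊥ := by
    intro hbot
    refine hZ a haH (fun h => hp.ne_one (by rw [← hao, h, orderOf_one])) (Subgroup.mem_center_iff.mpr fun g => ?_)
    obtain ⟨h0, hh0, hk⟩ := hsplit g
    have h1 : g * h0⁻¹ * a * (g * h0⁻¹)⁻¹ * a⁻¹ ∈ N := hNdef ▸ ⟨_, hkey ⟨_, hk⟩, rfl⟩
    rw [hbot, Subgroup.mem_bot, mul_inv_eq_one, mul_inv_eq_iff_eq_mul] at h1
    calc g * a = g * h0⁻¹ * (h0 * a) := by group
      _ = g * h0⁻¹ * (a * h0) := by rw [hcomm h0 hh0 a haH]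
      _ = (g * h0⁻¹ * a) * h0 := by group
      _ = (a * (g * h0⁻¹)) * h0 := by rw [h1]
      _ = a * g := by group
  have hNO : N ≤ O := hNdef ▸ Subgroup.map_subtype_le _
  have hNcop : (Nat.card N).Coprime p := hOcop.coprime_dvd_left (Subgroup.card_dvd_of_le hNO)
  have hfixN : ∀ x : O, (∀ h : H, φ h x = x) → x ∈ Codegree.kerSub ψ := by
    intro x hx
    obtain ⟨h, hh, he⟩ := hquot N hN (Or.inr hNcop) x x.2 fun h hh => by
      have := congrArg Subtype.val (hx ⟨h, hh⟩)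
      rw [hφval] at this
      exact mul_inv_eq_iff_eq_mul.mp this
    have h1 : h⁻¹ * (x : G) ∈ N := QuotientGroup.eq.mp he
    have h2 : h = 1 := by
      refine eq_one_of_pGroup_of_coprime hH hOcop hh ?_
      have := O.mul_mem x.2 (O.inv_mem (hNO h1))
      simpa [mul_assoc] using this
    rw [h2, inv_one, one_mul, hNdef] at h1
    obtain ⟨x', hx', hxe⟩ := h1
    rwa [← Subtype.ext hxe]
  letI : MulAction H O :=
    { smul := fun s t => φ s t
      one_smul := fun t => by show φ 1 t = t; simp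
      mul_smul := fun s s' t => by show φ (s * s') t = φ s (φ s' t); simp }
  have h := GlauberChar.cong_sum_fixed hH (fun t : O => (ψ : O → ℂ) t)
    (fun t => Char.IsCharacter.isIntegral (Char.IsIrrCharacter.isCharacter ψ.2) _) hψfix
  haveI := Fintype.ofFinite (⊤ : Subgroup O)
  have h0 := Codegree.sum_normal_eq_zero ψ ⊤ (not_top_le_kerSub hψne)
  rw [Fintype.sum_equiv Subgroup.topEquiv.toEquiv.symm (fun t : O => (ψ : O → ℂ) t)
    (fun t : (⊤ : Subgroup O) => (ψ : O → ℂ) t) (fun t => rfl), h0] at h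
  obtain ⟨m, -, hm, hmdvd⟩ := Char.IsIrrCharacter.degree_dvd_card ψ.2
  rw [Finset.sum_congr rfl (fun t ht => (hfixN t fun s => ((Finset.mem_filter.mp ht).2 : ∀ s : H, s • t = t) s).trans hm), Finset.sum_const,
    nsmul_eq_mul] at h
  obtain ⟨c, hc⟩ : ∃ c, c = (Finset.univ.filter fun t : O => ∀ s : H, s • t = t).card := ⟨_, rfl⟩
  rw [← hc] at h
  have h2 := GlauberChar.int_dvd_of_cong hp.ne_zero (a := 0) (b := ((c * m : ℕ) : ℤ)) (by push_cast; exact h)
  rw [zero_sub, dvd_neg, Int.natCast_dvd_natCast] at h2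
  rcases hp.dvd_mul.mp h2 with h3 | h3
  · refine hOp (h3.trans ?_)
    have hcF : c = Nat.card (GlauberChar.fixedSub φ) := by
      rw [hc, ← Fintype.card_subtype, ← Nat.card_eq_fintype_card]
      rfl
    exact hcF ▸ Subgroup.card_subgroup_dvd_card _
  · exact hOp (h3.trans hmdvd)

/-- For p odd the normal closure of `H` meets `N(H)` in `H`. -/
theorem closure_inf_normalizer {G : Type u} [Group G] [Finite G] {p : ℕ} [Fact p.Prime] (hp2 : p ≠ 2)
    {H : Subgroup G} (hH : IsPGroup p H) (hab : IsMulCommutative H) (hcl : IsExtremelyClosed H) :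
    Subgroup.normalClosure (H : Set G) ⊓ Subgroup.normalizer (H : Set G) = H :=
  le_antisymm (closure_inf_normalizer_aux _ G p hp2 H rfl hH hab hcl)
    (le_inf Subgroup.le_normalClosure Subgroup.le_normalizer)

end Cfsg.Agent.ExtremeClosed
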