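import Cfsg.Agent.Lib.ExtremeClosed.Analytic
import Cfsg.Agent.Lib.ZStar.Unique
import Cfsg.Agent.Lib.ZStar.Glauberman

/-!
# Extremely closed abelian p-subgroups: the normal closure

`normalClosure_le`: the normal closure of an extremely closed abelian p-subgroup `H` is contained in
`H O_{p'}(G)` (all primes; `|H| = 2` is the `Z*`-theorem); `normalizer_sup_core`: `G = N(H) O_{p'}(G)`.
-/

set_option autoImplicit false
set_option linter.style.haveILetI false
set_option linter.unusedSectionVars false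

namespace Cfsg.Agent.ExtremeClosed

universe u

section conj

variable {G : Type*} [Group G] [Finite G] {p : ℕ} [Fact p.Prime]

/-- Conjugation of p-subgroups of `K H` into `H` by elements of `K`. -/
theorem exists_conj_le {H K X Q : Subgroup G} (hH : IsPGroup p H) (hHX : H ≤ X) (hKX : K ≤ X)
    (hK : (Nat.card K).Coprime p) (hnorm : ∀ x ∈ X, ∀ k ∈ K, x * k * x⁻¹ ∈ K)
    (hsplit : ∀ x ∈ X, ∃ h ∈ H, x * h⁻¹ ∈ K) (hQ : IsPGroup p Q) (hQX : Q ≤ X) :
    ∃ k ∈ K, ∀ q ∈ Q, k * q * k⁻¹ ∈ H := by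
  haveI hKN : (K.subgroupOf X).Normal := ⟨fun k hk x => hnorm x x.2 k hk⟩
  have hcardX : ∀ R : Subgroup X, IsPGroup p R → Nat.card R ≤ Nat.card H := by
    intro R hR
    obtain ⟨f, hf⟩ : ∃ f, f = QuotientGroup.mk' (K.subgroupOf X) := ⟨_, rfl⟩
    have hinj : Function.Injective (f.comp R.subtype) := by
      rw [← MonoidHom.ker_eq_bot_iff, Subgroup.eq_bot_iff_forall]
      intro x hx
      rw [MonoidHom.mem_ker, MonoidHom.comp_apply, hf, QuotientGroup.mk'_apply, QuotientGroup.eq_one_iff] at hx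
      exact Subtype.ext (eq_one_of_pGroup_of_coprime (H := R) (K := K.subgroupOf X) hR
        (by rw [Cores.card_subgroupOf hKX]; exact hK) x.2 hx)
    have hsurj : Function.Surjective (f.comp (Subgroup.inclusion hHX)) := by
      intro q
      obtain ⟨⟨x, hx⟩, rfl⟩ : ∃ x, f x = q := by rw [hf]; exact QuotientGroup.mk'_surjective _ q
      obtain ⟨h, hh, hk⟩ := hsplit x hx
      refine ⟨⟨h, hh⟩, ?_⟩
      have e : (⟨x, hx⟩ : X) = ⟨x * h⁻¹, hKX hk⟩ * Subgroup.inclusion hHX ⟨h, hh⟩ :=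
        Subtype.ext (show x = x * h⁻¹ * h by simp)
      rw [e, map_mul, show f ⟨x * h⁻¹, hKX hk⟩ = 1 by rw [hf]; exact (QuotientGroup.eq_one_iff _).mpr hk,
        one_mul]
      rfl
    exact (Nat.card_le_card_of_injective _ hinj).trans (Nat.card_le_card_of_surjective _ hsurj)
  obtain ⟨S, hS⟩ := (hH.comap_subtype (K := X)).exists_le_sylow
  have hSeq : (S : Subgroup X) = H.subgroupOf X :=
    (Subgroup.eq_of_le_of_card_ge hS ((hcardX _ S.isPGroup').trans_eq (Cores.card_subgroupOf hHX).symm)).symm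
  obtain ⟨S', hS'⟩ := (hQ.comap_subtype (K := X)).exists_le_sylow
  obtain ⟨x, hx⟩ := MulAction.exists_smul_eq X S' S
  obtain ⟨h, hh, hk⟩ := hsplit (x : G)⁻¹ (X.inv_mem x.2)
  refine ⟨((x : G)⁻¹ * h⁻¹)⁻¹, K.inv_mem hk, fun q hq => ?_⟩
  have h1 : MulAut.conj x ⟨q, hQX hq⟩ ∈ ((x • S' : Sylow p X) : Subgroup X) := by
    rw [Sylow.coe_subgroup_smul]
    exact Subgroup.smul_mem_pointwise_smul _ (MulAut.conj x) _ (hS' hq)
  rw [hx, hSeq] at h1
  have h2 : (x : G) * q * (x : G)⁻¹ ∈ H := h1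
  rw [show ((x : G)⁻¹ * h⁻¹)⁻¹ * q * ((x : G)⁻¹ * h⁻¹)⁻¹⁻¹ = h * ((x : G) * q * (x : G)⁻¹) * h⁻¹ by group]
  exact H.mul_mem (H.mul_mem hh h2) (H.inv_mem hh)

theorem Pair.exists_conj_mem {H : Subgroup G} {g : G} (P : Pair p H g) (hH : IsPGroup p H) :
    ∃ k ∈ P.K, ∀ h ∈ H, k * (g * h * g⁻¹) * k⁻¹ ∈ H := by
  obtain ⟨k, hk, h1⟩ := exists_conj_le hH le_sup_left P.le_sup P.cop P.norm P.split
    (Q := H.map (MulAut.conj g).toMonoidHom) (hH.map _) le_sup_right
  exact ⟨k, hk, fun h hh => h1 _ (conj_mem_map hh)⟩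

theorem extremelyClosed_subgroupOf {H C : Subgroup G} (hcl : IsExtremelyClosed H) (hHC : H ≤ C) :
    IsExtremelyClosed (H.subgroupOf C) := by
  intro c
  refine le_antisymm ?_ (le_inf le_sup_left Subgroup.le_normalizer)
  rintro x ⟨hx, hn⟩
  have h1 : H.subgroupOf C ⊔ (H.subgroupOf C).map (MulAut.conj c).toMonoidHom ≤
      (H ⊔ H.map (MulAut.conj (c : G)).toMonoidHom).subgroupOf C := by
    refine sup_le (fun y hy => Subgroup.mem_sup_left (show (y : G) ∈ H from hy)) ?_
    rintro y ⟨z, hz, rfl⟩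
    exact Subgroup.mem_sup_right (conj_mem_map (h := (z : G)) hz)
  refine (hcl c).le ⟨h1 hx, Subgroup.mem_normalizer_fintype fun h hh => ?_⟩
  exact (Subgroup.mem_normalizer_iff.mp hn ⟨h, hHC hh⟩).mp hh

theorem extremelyClosed_quotient {H Z : Subgroup G} [Z.Normal] (hcl : IsExtremelyClosed H) (hZH : Z ≤ H) :
    IsExtremelyClosed (H.map (QuotientGroup.mk' Z)) := by
  intro q
  refine le_antisymm ?_ (le_inf le_sup_left Subgroup.le_normalizer)
  obtain ⟨g, rfl⟩ := QuotientGroup.mk'_surjective Z q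
  rintro y ⟨hy, hn⟩
  have h1 : (H.map (QuotientGroup.mk' Z)).map (MulAut.conj (QuotientGroup.mk' Z g)).toMonoidHom =
      (H.map (MulAut.conj g).toMonoidHom).map (QuotientGroup.mk' Z) := by
    rw [Subgroup.map_map, Subgroup.map_map]
    congr 1
  rw [h1, ← Subgroup.map_sup] at hy
  obtain ⟨x, hx, rfl⟩ := hy
  refine Subgroup.mem_map_of_mem _ ((hcl g).le ⟨hx, Subgroup.mem_normalizer_fintype fun h hh => ?_⟩)
  obtain ⟨h', hh', he⟩ := (Subgroup.mem_normalizer_iff.mp hn _).mp (Subgroup.mem_map_of_mem _ hh)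
  rw [← map_mul, ← map_inv, ← map_mul] at he
  have h2 : h'⁻¹ * (x * h * x⁻¹) ∈ Z := QuotientGroup.eq.mp he
  have h3 := H.mul_mem hh' (hZH h2)
  rwa [mul_inv_cancel_left] at h3

end conj

/-- The order two case: Glauberman's `Z*`-theorem. -/
theorem normalClosure_le_two {G : Type u} [Group G] [Finite G] {p : ℕ} [Fact p.Prime] {H : Subgroup G}
    (hH : IsPGroup p H) (hcl : IsExtremelyClosed H) (h2 : Nat.card H = 2) :
    Subgroup.normalClosure (H : Set G) ≤ H ⊔ pPrimeCore p G := by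
  classical
  obtain ⟨i, hi⟩ := hH.exists_card_eq
  obtain rfl : p = 2 := by
    rw [h2] at hi
    have hi0 : i ≠ 0 := fun h => by simp [h] at hi
    exact (Nat.prime_dvd_prime_iff_eq (Fact.out : p.Prime) Nat.prime_two).mp
      (hi ▸ dvd_pow_self p hi0)
  haveI : Fintype H := Fintype.ofFinite H
  haveI : Nontrivial H := Finite.one_lt_card_iff_nontrivial.mp (by omega)
  obtain ⟨⟨t, htH⟩, ht1⟩ := exists_ne (1 : H)
  have hall : ∀ x ∈ H, x = 1 ∨ x = t := by
    intro x hx
    by_contra hc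
    push Not at hc
    have h3 : ({1, ⟨t, htH⟩, ⟨x, hx⟩} : Finset H).card ≤ 2 := by
      rw [← h2, Nat.card_eq_fintype_card]; exact Finset.card_le_univ _
    rw [Finset.card_insert_of_notMem, Finset.card_pair] at h3
    · omega
    · exact fun h => hc.2 (congrArg Subtype.val h).symm
    · simp only [Finset.mem_insert, Finset.mem_singleton, not_or]
      exact ⟨Ne.symm ht1, fun h => hc.1 (congrArg Subtype.val h).symm⟩
  have hto : orderOf t = 2 := by
    refine orderOf_eq_prime ?_ fun h => ht1 (Subtype.ext h)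
    have := pow_card_eq_one' (G := H) (x := ⟨t, htH⟩)
    rw [h2] at this
    exact congrArg Subtype.val this
  have hiso : IsIsolatedInvolution t := ⟨hto, fun g hc => by
    have hN : g * t * g⁻¹ ∈ Subgroup.normalizer (H : Set G) := Subgroup.mem_normalizer_fintype fun x hx => by
      rcases hall x hx with rfl | rfl
      · simp
      · rw [hc.symm.eq, mul_inv_cancel_right]; exact htH
    have hmem : g * t * g⁻¹ ∈ H := (hcl g).le ⟨Subgroup.mem_sup_right (conj_mem_map htH), hN⟩
    refine (hall _ hmem).resolve_left fun h => ht1 (Subtype.ext ?_)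
    exact (mul_left_cancel ((mul_inv_eq_one.mp h).trans (mul_one g).symm) : t = 1)⟩
  haveI : (pPrimeCore 2 G).Normal := Cores.pPrimeCore_normal 2 G
  refine (Subgroup.closure_le _).mpr fun y hy => ?_
  obtain ⟨a, ha, hay⟩ := Group.mem_conjugatesOfSet_iff.mp hy
  obtain ⟨g, rfl⟩ := isConj_iff.mp hay
  rcases hall a ha with rfl | rfl
  · simp
  · have h := ZStar.zStar_of_brauerSuzuki ZStar.uniqueInvolution hiso g
    rw [show g * a * g⁻¹ = (a * g * a⁻¹ * g⁻¹)⁻¹ * a by group]
    exact Subgroup.mul_mem _ (Subgroup.mem_sup_right (Subgroup.inv_mem _ h)) (Subgroup.mem_sup_left htH)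

theorem normalClosure_le_aux (n : ℕ) :
    ∀ (G : Type u) [Group G] [Finite G] (p : ℕ) [Fact p.Prime] (H : Subgroup G), Nat.card G = n →
      IsPGroup p H → IsMulCommutative H → IsExtremelyClosed H →
      Subgroup.normalClosure (H : Set G) ≤ H ⊔ pPrimeCore p G := by
  induction n using Nat.strong_induction_on with
  | _ n ih =>
  intro G _ _ p _ H hn hH hab hcl
  have hp : p.Prime := Fact.out
  haveI hON : (pPrimeCore p G).Normal := Cores.pPrimeCore_normal p G
  haveI : IsMulCommutative H := hab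
  have hcomm : ∀ a ∈ H, ∀ b ∈ H, a * b = b * a := fun a ha b hb =>
    congrArg Subtype.val (mul_comm' (⟨a, ha⟩ : H) ⟨b, hb⟩)
  have hsubgroup : ∀ C : Subgroup G, C ≠ ⊤ → H ≤ C →
      Subgroup.normalClosure ((H.subgroupOf C : Subgroup C) : Set C) ≤ H.subgroupOf C ⊔ pPrimeCore p C := by
    intro C hC hHC
    refine ih (Nat.card C) (hn ▸ ?_) C p _ rfl (hH.comap_subtype) ?_ (extremelyClosed_subgroupOf hcl hHC)
    · exact lt_of_le_of_ne (Subgroup.card_le_card_group C) fun e => hC (Subgroup.eq_top_of_card_eq C e)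
    · exact ⟨⟨fun a b => Subtype.ext (Subtype.ext (hcomm _ a.2 _ b.2))⟩⟩
  by_cases h1 : Nat.card H = 1
  · rw [Subgroup.card_eq_one.mp h1, Subgroup.coe_bot]
    refine le_trans (Subgroup.normalClosure_le_normal (N := (⊥ : Subgroup G)) ?_) bot_le
    simp
  by_cases h2 : Nat.card H = 2
  · exact normalClosure_le_two hH hcl h2
  have h3 : 3 ≤ Nat.card H := by
    have := Nat.card_pos (α := H)
    omega
  obtain ⟨P⟩ : Nonempty (∀ g : G, Pair p H g) := Classical.nonempty_pi.mpr fun g => exists_pair hH hab hcl g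
  by_cases hL : Subgroup.normalClosure (H : Set G) ≠ ⊤
  · obtain ⟨L, hLdef⟩ : ∃ L, L = Subgroup.normalClosure (H : Set G) := ⟨_, rfl⟩
    haveI : L.Normal := hLdef ▸ Subgroup.normalClosure_normal
    have hHL : H ≤ L := hLdef ▸ Subgroup.le_normalClosure
    rw [← hLdef] at hL ⊢
    obtain ⟨N, hN⟩ : ∃ N, N = (Subgroup.normalClosure ((H.subgroupOf L : Subgroup L) : Set L)).map L.subtype :=
      ⟨_, rfl⟩
    have hLN : L ≤ N := by
      conv_lhs => rw [hLdef]
      refine (Subgroup.closure_le _).mpr fun y hy => ?_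
      obtain ⟨a, ha, hay⟩ := Group.mem_conjugatesOfSet_iff.mp hy
      obtain ⟨g, rfl⟩ := isConj_iff.mp hay
      obtain ⟨k, hk, hk'⟩ := (P g).exists_conj_mem hH
      have hkL : k ∈ L := by
        refine (sup_le hHL ?_) ((P g).le_sup hk)
        rintro _ ⟨z, hz, rfl⟩
        exact Subgroup.Normal.conj_mem inferInstance z (hHL hz) g
      obtain ⟨kL, hkL'⟩ : ∃ kL : L, (kL : G) = k := ⟨⟨k, hkL⟩, rfl⟩
      obtain ⟨a', ha'⟩ : ∃ a' : L, (a' : G) = k * (g * a * g⁻¹) * k⁻¹ := ⟨⟨_, hHL (hk' a ha)⟩, rfl⟩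
      rw [hN]
      refine ⟨kL⁻¹ * a' * kL⁻¹⁻¹, Subgroup.normalClosure_normal.conj_mem a' (Subgroup.subset_normalClosure ?_) _, ?_⟩
      · show (a' : G) ∈ H
        rw [ha']; exact hk' a ha
      · simp only [Subgroup.coe_subtype, Subgroup.coe_mul, Subgroup.coe_inv, ha', hkL']
        group
    refine hLN.trans ?_
    rw [hN]
    refine (Subgroup.map_mono (hsubgroup L hL hHL)).trans ?_
    rw [Subgroup.map_sup, Subgroup.map_subgroupOf_eq_of_le hHL, Cores.pPrimeCore_map_subtype]
    exact sup_le_sup le_rfl inf_le_left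
  push Not at hL
  rw [hL]
  -- it suffices to have `N(H) ≤ C(H)` and `H` Sylow
  have hburn : ∀ S : Sylow p G, (S : Subgroup G) = H →
      Subgroup.normalizer (H : Set G) ≤ Subgroup.centralizer (H : Set G) → ⊤ ≤ H ⊔ pPrimeCore p G := by
    intro S hS hNC
    have hNC' : Subgroup.normalizer ((S : Subgroup G) : Set G) ≤ Subgroup.centralizer ((S : Subgroup G) : Set G) := by
      rw [hS]; exact hNC
    have hK := MonoidHom.ker_transferSylow_isComplement' S hNC'
    have hle : (MonoidHom.transferSylow S hNC').ker ≤ pPrimeCore p G :=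
      Cores.le_pPrimeCore inferInstance (by
        rw [Nat.coprime_comm, hp.coprime_iff_not_dvd]
        exact MonoidHom.not_dvd_card_ker_transferSylow S hNC')
    rw [← hK.sup_eq_top]
    exact (sup_le_sup hle hS.le).trans (sup_comm _ _).le
  by_cases hZ : ∃ z ∈ H, z ≠ 1 ∧ z ∈ Subgroup.center G
  · obtain ⟨z, hzH, hz1, hzc⟩ := hZ
    haveI hZN : (Subgroup.zpowers z).Normal := ⟨fun a ha g => by
      have : g * a = a * g := Subgroup.mem_center_iff.mp ((Subgroup.zpowers_le.mpr hzc) ha) g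
      rw [this, mul_inv_cancel_right]; exact ha⟩
    obtain ⟨f, hf⟩ : ∃ f, f = QuotientGroup.mk' (Subgroup.zpowers z) := ⟨_, rfl⟩
    have hfs : Function.Surjective f := hf ▸ QuotientGroup.mk'_surjective _
    have hker : f.ker ≤ H := by rw [hf, QuotientGroup.ker_mk']; exact Subgroup.zpowers_le.mpr hzH
    have hlt : Nat.card (G ⧸ Subgroup.zpowers z) < n := by
      rw [← hn, Subgroup.card_eq_card_quotient_mul_card_subgroup (Subgroup.zpowers z)]
      refine lt_mul_of_one_lt_right Nat.card_pos ?_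
      rw [Nat.card_zpowers]
      exact lt_of_le_of_ne (orderOf_pos z) (fun h => hz1 (orderOf_eq_one_iff.mp h.symm))
    have hq := ih _ hlt (G ⧸ Subgroup.zpowers z) p (H.map f) rfl (hH.map f)
      ⟨⟨fun a b => Subtype.ext (by
        obtain ⟨x, hx, hx'⟩ := a.2
        obtain ⟨y, hy, hy'⟩ := b.2
        rw [Subgroup.coe_mul, Subgroup.coe_mul, ← hx', ← hy', ← map_mul, ← map_mul, hcomm x hx y hy])⟩⟩
      (hf ▸ extremelyClosed_quotient hcl (Subgroup.zpowers_le.mpr hzH))
    have htop : H.map f ⊔ pPrimeCore p (G ⧸ Subgroup.zpowers z) = ⊤ := top_unique (le_trans (le_of_eq (by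
      rw [Subgroup.coe_map, ← Subgroup.map_normalClosure _ f hfs, hL,
        Subgroup.map_top_of_surjective f hfs])) hq)
    haveI hON' : (pPrimeCore p (G ⧸ Subgroup.zpowers z)).Normal := Cores.pPrimeCore_normal p _
    have hidx : ¬ p ∣ H.index := by
      have e : (H.map f).index = H.index := by
        exact Subgroup.index_map_eq H hfs hker
      rw [← e]
      intro hd
      have h := Cores.card_sup_dvd (H.map f) (pPrimeCore p (G ⧸ Subgroup.zpowers z))
      rw [htop, Subgroup.card_top, ← Subgroup.card_mul_index (H.map f)] at h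
      exact Cores.not_dvd_card_pPrimeCore (hd.trans (Nat.dvd_of_mul_dvd_mul_left Nat.card_pos h))
    refine hburn (hH.toSylow hidx) (IsPGroup.toSylow_coe hH hidx) fun x hx => ?_
    have hstep : ∀ a ∈ H, f (x * a * x⁻¹) = f a := by
      intro a ha
      have hxx : f x ∈ H.map f ⊔ pPrimeCore p (G ⧸ Subgroup.zpowers z) := htop ▸ Subgroup.mem_top _
      obtain ⟨_, ⟨h, hh, rfl⟩, o, ho, he⟩ := Subgroup.mem_sup_of_normal_right.mp hxx
      have hxa : x * a * x⁻¹ ∈ H := (Subgroup.mem_normalizer_iff.mp hx a).mp ha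
      refine mul_inv_eq_one.mp (eq_one_of_pGroup_of_coprime (H := H.map f)
        (K := pPrimeCore p (G ⧸ Subgroup.zpowers z)) (hH.map f) (Cores.coprime_card_pPrimeCore p) ?_ ?_)
      · rw [← map_inv, ← map_mul]
        exact Subgroup.mem_map_of_mem f (H.mul_mem hxa (H.inv_mem ha))
      · have e : f (x * a * x⁻¹) * (f a)⁻¹ = f h * (o * (f a * o⁻¹ * (f a)⁻¹)) * (f h)⁻¹ := by
          have hc : f h * f a = f a * f h := by rw [← map_mul, ← map_mul, hcomm h hh a ha]
          have hc' : (f h)⁻¹ * (f a)⁻¹ = (f a)⁻¹ * (f h)⁻¹ := by rw [← mul_inv_rev, ← mul_inv_rev, hc]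
          rw [map_mul, map_mul, map_inv, ← he]
          simp only [mul_inv_rev, mul_assoc, hc']
        rw [e]
        exact hON'.conj_mem _ (Subgroup.mul_mem _ ho (hON'.conj_mem _ (Subgroup.inv_mem _ ho) _)) _
    obtain ⟨u, v, huv, hu, hv, ⟨j, hj⟩, hvcop⟩ := Transfer.exists_pPart_mul (p := p) x
    have huC : u ∈ Subgroup.centralizer (H : Set G) := by
      have huN : u ∈ Subgroup.normalizer (H : Set G) := (Subgroup.zpowers_le.mpr hx) hu
      have huP : IsPGroup p (H ⊔ Subgroup.zpowers u : Subgroup G) :=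
        IsPGroup.to_sup_of_normal_left' hH (IsPGroup.of_card (n := j) (by rw [Nat.card_zpowers, hj]))
          (Subgroup.zpowers_le.mpr huN)
      have heq : H ⊔ Subgroup.zpowers u = H :=
        ((hH.toSylow hidx).is_maximal' huP (by rw [IsPGroup.toSylow_coe]; exact le_sup_left)).trans
          (IsPGroup.toSylow_coe hH hidx)
      have : u ∈ H := heq.le (Subgroup.mem_sup_right (Subgroup.mem_zpowers u))
      exact fun a ha => hcomm a ha u this
    have hvN : ∀ a ∈ H, f (v * a * v⁻¹) = f a := by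
      intro a ha
      have h := hstep a ha
      have hva : v * a * v⁻¹ ∈ H :=
        (Subgroup.mem_normalizer_iff.mp ((Subgroup.zpowers_le.mpr hx) hv) a).mp ha
      rwa [huv, show u * v * a * (u * v)⁻¹ = u * (v * a * v⁻¹) * u⁻¹ by group, ← huC _ hva,
        mul_inv_cancel_right] at h
    have hvC : v ∈ Subgroup.centralizer (H : Set G) := by
      intro a ha
      obtain ⟨e, he⟩ : ∃ e, e = v * a * v⁻¹ * a⁻¹ := ⟨_, rfl⟩
      have heK : e ∈ Subgroup.zpowers z := by
        rw [← QuotientGroup.ker_mk' (Subgroup.zpowers z), ← hf, MonoidHom.mem_ker, he, map_mul, hvN a ha, map_inv,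
          mul_inv_cancel]
      have hec : ∀ g : G, g * e = e * g := Subgroup.mem_center_iff.mp ((Subgroup.zpowers_le.mpr hzc) heK)
      have hpow : ∀ i : ℕ, v ^ i * a * (v ^ i)⁻¹ = e ^ i * a := by
        intro i
        induction i with
        | zero => simp
        | succ i hi =>
          have hva : v * a * v⁻¹ = e * a := by rw [he]; group
          calc v ^ (i + 1) * a * (v ^ (i + 1))⁻¹ = v * (v ^ i * a * (v ^ i)⁻¹) * v⁻¹ := by
                rw [pow_succ']; group
            _ = v * (e ^ i * a) * v⁻¹ := by rw [hi]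
            _ = e ^ i * (v * a * v⁻¹) := by
                have hc : v * e ^ i = e ^ i * v := (Commute.pow_right (hec v) i).eq
                simp only [← mul_assoc, hc]
            _ = e ^ (i + 1) * a := by rw [hva, pow_succ, mul_assoc]
      have hone : e ^ orderOf v = 1 := by
        have h := hpow (orderOf v)
        rw [pow_orderOf_eq_one, one_mul, inv_one, mul_one] at h
        exact (mul_eq_right.mp h.symm)
      obtain ⟨i, hi⟩ := IsPGroup.iff_orderOf.mp hH ⟨e, (Subgroup.zpowers_le.mpr hzH) heK⟩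
      rw [Subgroup.orderOf_mk] at hi
      have he1 : e = 1 := orderOf_eq_one_iff.mp (Nat.eq_one_of_dvd_coprimes (hvcop.symm.pow_left i)
        hi.dvd (orderOf_dvd_of_pow_eq_one hone))
      rw [he] at he1
      exact (mul_inv_eq_iff_eq_mul.mp (mul_inv_eq_one.mp he1)).symm
    rw [huv]
    exact Subgroup.mul_mem _ huC hvC
  push Not at hZ
  obtain ⟨M, hM⟩ := Blocks.exists_isPModular hp
  haveI := Fintype.ofFinite G
  haveI := Fintype.ofFinite H
  haveI := Fintype.ofFinite (IrrCharacter G)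
  have hno := not_fused hM hH hab P h3 hL (fun z hz hz1 => hsubgroup _ (fun e => hZ z hz hz1 (by
      rw [Subgroup.mem_center_iff]
      intro g
      exact Subgroup.mem_centralizer_singleton_iff.mp (e ▸ Subgroup.mem_top g)))
    (fun a ha => Subgroup.mem_centralizer_singleton_iff.mpr (hcomm a ha z hz)))
  rw [not_or] at hno
  have hNC : Subgroup.normalizer (H : Set G) ≤ Subgroup.centralizer (H : Set G) := by
    intro x hx a ha
    by_contra hne
    have hb : x * a * x⁻¹ ∈ H := (Subgroup.mem_normalizer_iff.mp hx a).mp ha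
    refine hno.1 ⟨⟨a, ha⟩, ⟨x * a * x⁻¹, hb⟩, fun h => hne ?_, fun h => hne ?_, isConj_iff.mpr ⟨x, rfl⟩⟩
    · exact mul_inv_eq_iff_eq_mul.mp (congrArg Subtype.val h).symm |>.symm
    · have : a = 1 := congrArg Subtype.val h
      rw [this, one_mul, mul_one]
  obtain ⟨S, hS⟩ := hH.exists_le_sylow
  by_cases hSH : (S : Subgroup G) ≤ H
  · exact hburn S (le_antisymm hSH hS) hNC
  exfalso
  haveI := S.isPGroup'.isNilpotent
  let K : Subgroup ↥(S : Subgroup G) := H.subgroupOf (S : Subgroup G)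
  have hK : K < ⊤ := lt_top_iff_ne_top.mpr fun h => hSH (Subgroup.subgroupOf_eq_top.mp h)
  obtain ⟨Q, hQdef⟩ : ∃ Q, Q = (Subgroup.normalizer (K : Set ↥(S : Subgroup G))).map (S : Subgroup G).subtype :=
    ⟨_, rfl⟩
  have hQN : Q ≤ Subgroup.normalizer (H : Set G) := by
    rw [hQdef]
    rintro _ ⟨x, hx, rfl⟩
    exact Subgroup.mem_normalizer_fintype fun h hh =>
      (Subgroup.mem_normalizer_iff.mp hx ⟨h, hS hh⟩).mp hh
  refine hno.2 ⟨Q, hQdef ▸ (S.isPGroup'.to_subgroup _).map _, ?_, fun x hx a ha => hNC (hQN hx) a ha⟩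
  rw [hQdef, Cores.card_map_subtype, ← Cores.card_subgroupOf hS]
  have hle := Group.normalizerCondition_of_isNilpotent K hK
  exact lt_of_le_of_ne (Subgroup.card_le_of_le hle.le)
    fun e => hle.ne (Subgroup.eq_of_le_of_card_ge hle.le e.ge)

/-- The normal closure of an extremely closed abelian p-subgroup `H` lies in `H O_{p'}(G)`. -/
theorem normalClosure_le {G : Type u} [Group G] [Finite G] {p : ℕ} [Fact p.Prime] {H : Subgroup G}
    (hH : IsPGroup p H) (hab : IsMulCommutative H) (hcl : IsExtremelyClosed H) :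
    Subgroup.normalClosure (H : Set G) ≤ H ⊔ pPrimeCore p G :=
  normalClosure_le_aux _ G p H rfl hH hab hcl

/-- The Frattini argument: `G = N(H) O_{p'}(G)`. -/
theorem normalizer_sup_core {G : Type u} [Group G] [Finite G] {p : ℕ} [Fact p.Prime] {H : Subgroup G}
    (hH : IsPGroup p H) (hab : IsMulCommutative H) (hcl : IsExtremelyClosed H) :
    Subgroup.normalizer (H : Set G) ⊔ pPrimeCore p G = ⊤ := by
  haveI : (pPrimeCore p G).Normal := Cores.pPrimeCore_normal p G
  refine top_unique fun g _ => ?_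
  obtain ⟨k, hk, hk'⟩ := exists_conj_le hH le_sup_left le_sup_right (Cores.coprime_card_pPrimeCore p)
    (fun x _ k hk => Subgroup.Normal.conj_mem inferInstance k hk x)
    (fun x hx => by
      rw [sup_comm] at hx
      obtain ⟨o, ho, h, hh, rfl⟩ := Subgroup.mem_sup_of_normal_left.mp hx
      exact ⟨h, hh, by rwa [mul_inv_cancel_right]⟩)
    (Q := H.map (MulAut.conj g).toMonoidHom) (hH.map _) (by
      rintro _ ⟨h, hh, rfl⟩
      exact normalClosure_le hH hab hcl
        (Subgroup.normalClosure_normal.conj_mem h (Subgroup.subset_normalClosure hh) g))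
  have hkg : k * g ∈ Subgroup.normalizer (H : Set G) := Subgroup.mem_normalizer_fintype fun h hh => by
    have := hk' _ (conj_mem_map (g := g) hh)
    rwa [show k * g * h * (k * g)⁻¹ = k * (g * h * g⁻¹) * k⁻¹ by group]
  rw [show g = k⁻¹ * (k * g) by group]
  exact Subgroup.mul_mem _ (Subgroup.mem_sup_right (Subgroup.inv_mem _ hk)) (Subgroup.mem_sup_left hkg)

end Cfsg.Agent.ExtremeClosed
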