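import Cfsg.Agent.S3020
import Cfsg.Agent.Lib.Cores.Basic
import Cfsg.Agent.Lib.Transfer.Residual
import Cfsg.Prelude.Def_SubgroupEmbedding

/-!
# Pairs of conjugates of an extremely closed abelian p-subgroup

For `H` abelian extremely closed and `g : G` the group generated by `H` and `g H g⁻¹` is `K H` with `K` a
`p'`-subgroup normalised by `H` on which `H` fixes only `1` (`Pair`); `Pair.twist` is the map `θ : H → H` with
`g h g⁻¹ ∈ K θ(h)`, and every element of `K` commuting with a nontrivial `z ∈ H` lies in the `p'`-core of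
`C(z)` when the conclusion is known there.
-/

set_option autoImplicit false
set_option linter.style.haveILetI false
set_option linter.unusedSectionVars false

namespace Cfsg.Agent.ExtremeClosed

variable {G : Type*} [Group G] [Finite G] {p : ℕ} [Fact p.Prime]

theorem conj_mem_map {H : Subgroup G} {g h : G} (hh : h ∈ H) :
    g * h * g⁻¹ ∈ H.map (MulAut.conj g).toMonoidHom := by
  have := Subgroup.mem_map_of_mem (MulAut.conj g).toMonoidHom hh
  simpa using this

theorem eq_one_of_pGroup_of_coprime {H K : Subgroup G} (hH : IsPGroup p H) (hK : (Nat.card K).Coprime p)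
    {x : G} (hx : x ∈ H) (hxK : x ∈ K) : x = 1 := by
  obtain ⟨n, hn⟩ := hH.exists_card_eq
  have h1 := Subgroup.orderOf_dvd_natCard H hx
  have h2 := Subgroup.orderOf_dvd_natCard K hxK
  rw [hn] at h1
  exact orderOf_eq_one_iff.mp (Nat.eq_one_of_dvd_coprimes (hK.symm.pow_left n) h1 h2)

/-- What a pair of conjugates of `H` looks like. -/
structure Pair (p : ℕ) (H : Subgroup G) (g : G) where
  K : Subgroup G
  cop : (Nat.card K).Coprime p
  le_sup : K ≤ H ⊔ H.map (MulAut.conj g).toMonoidHom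
  norm : ∀ x ∈ H ⊔ H.map (MulAut.conj g).toMonoidHom, ∀ k ∈ K, x * k * x⁻¹ ∈ K
  split : ∀ x ∈ H ⊔ H.map (MulAut.conj g).toMonoidHom, ∃ h ∈ H, x * h⁻¹ ∈ K
  fixed : ∀ k ∈ K, (∀ h ∈ H, Commute h k) → k = 1

theorem exists_pair {H : Subgroup G} (hH : IsPGroup p H) (hab : IsMulCommutative H)
    (hcl : IsExtremelyClosed H) (g : G) : Nonempty (Pair p H g) := by
  obtain ⟨T, hT⟩ : ∃ T, T = H ⊔ H.map (MulAut.conj g).toMonoidHom := ⟨_, rfl⟩
  obtain ⟨h1, h2⟩ := S3020.result H hH hab hcl g T hT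
  haveI : (pPrimeCore p T).Normal := Cores.pPrimeCore_normal p T
  have hle : (pPrimeCore p T).map T.subtype ≤ T := Subgroup.map_subtype_le _
  have hnorm : ∀ x ∈ T, ∀ k ∈ (pPrimeCore p T).map T.subtype, x * k * x⁻¹ ∈ (pPrimeCore p T).map T.subtype := by
    rintro x hx k ⟨k', hk', rfl⟩
    exact ⟨⟨x, hx⟩ * k' * ⟨x, hx⟩⁻¹, Subgroup.Normal.conj_mem inferInstance k' hk' _, rfl⟩
  refine ⟨⟨(pPrimeCore p T).map T.subtype, ?_, hT ▸ hle, hT ▸ hnorm, ?_, ?_⟩⟩
  · rw [Cores.card_map_subtype]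
    exact Cores.coprime_card_pPrimeCore p
  · intro x hx
    rw [← hT, ← h1] at hx
    have hHT : H ≤ T := hT ▸ le_sup_left
    have hn : H ≤ Subgroup.normalizer ((pPrimeCore p T).map T.subtype : Set G) := fun h hh =>
      Subgroup.mem_normalizer_fintype fun k hk => hnorm h (hHT hh) k hk
    rw [sup_comm, ← SetLike.mem_coe, Subgroup.coe_mul_of_right_le_normalizer_left _ _ hn] at hx
    obtain ⟨k, hk, h, hh, rfl⟩ := hx
    exact ⟨h, hh, by simpa using hk⟩
  · intro k hk hc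
    have hkN : k ∈ Subgroup.normalizer (H : Set G) := Subgroup.mem_normalizer_fintype fun h hh => by
      have := (hc h hh).eq
      rwa [← this, mul_inv_cancel_right]
    have h3 : k ∈ H := (hcl g).le ⟨hT ▸ hle hk, hkN⟩
    exact Subgroup.mem_bot.mp (h2.le ⟨h3, hk⟩)

namespace Pair

variable {H : Subgroup G} {g : G} (P : Pair p H g)

theorem conj_mem {h : G} (hh : h ∈ H) : g * h * g⁻¹ ∈ H ⊔ H.map (MulAut.conj g).toMonoidHom :=
  Subgroup.mem_sup_right (conj_mem_map hh)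

theorem H_norm {h k : G} (hh : h ∈ H) (hk : k ∈ P.K) : h * k * h⁻¹ ∈ P.K :=
  P.norm h (Subgroup.mem_sup_left hh) k hk

theorem eq_of_mem (hH : IsPGroup p H) {a b : G} (ha : a ∈ H) (hb : b ∈ H) (h : a * b⁻¹ ∈ P.K) : a = b :=
  mul_inv_eq_one.mp (eq_one_of_pGroup_of_coprime hH P.cop (H.mul_mem ha (H.inv_mem hb)) h)

theorem exists_twist (h : H) : ∃ z : H, g * h * g⁻¹ * (z : G)⁻¹ ∈ P.K := by
  obtain ⟨z, hz, hk⟩ := P.split _ (conj_mem h.2)
  exact ⟨⟨z, hz⟩, hk⟩

/-- `g h g⁻¹ ∈ K θ(h)`. -/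
noncomputable def twistFun (h : H) : H := (P.exists_twist h).choose

theorem twistFun_spec (h : H) : g * h * g⁻¹ * (P.twistFun h : G)⁻¹ ∈ P.K := (P.exists_twist h).choose_spec

theorem twistFun_eq (hH : IsPGroup p H) {h z : H} (hz : g * h * g⁻¹ * (z : G)⁻¹ ∈ P.K) :
    P.twistFun h = z := by
  refine Subtype.ext (P.eq_of_mem hH (P.twistFun h).2 z.2 ?_)
  have h1 := P.K.mul_mem (P.K.inv_mem (P.twistFun_spec h)) hz
  simpa [mul_assoc] using h1

/-- `twistFun` as a homomorphism. -/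
noncomputable def twist (hH : IsPGroup p H) : H →* H where
  toFun := P.twistFun
  map_one' := P.twistFun_eq hH (by simp)
  map_mul' a b := P.twistFun_eq hH (by
    have ha := P.twistFun_spec a
    have hb := P.H_norm (P.twistFun a).2 (P.twistFun_spec b)
    have h1 := P.K.mul_mem ha hb
    simpa [mul_assoc] using h1)

theorem twist_spec (hH : IsPGroup p H) (h : H) : g * h * g⁻¹ * (P.twist hH h : G)⁻¹ ∈ P.K :=
  P.twistFun_spec h

/-- An element of `K` commuting with `z` is in the core of `C(z)`, if this group has the conclusion. -/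
theorem mem_core_centralizer (hH : IsPGroup p H) {z : G}
    (hsub : H ≤ Subgroup.centralizer ({z} : Set G))
    (hC : Subgroup.normalClosure ((H.subgroupOf (Subgroup.centralizer ({z} : Set G))) : Set _) ≤
      H.subgroupOf (Subgroup.centralizer ({z} : Set G)) ⊔ pPrimeCore p (Subgroup.centralizer ({z} : Set G)))
    {y : G} (hy : y ∈ P.K) (hyz : Commute y z) :
    y ∈ (pPrimeCore p (Subgroup.centralizer ({z} : Set G))).map (Subgroup.centralizer ({z} : Set G)).subtype := by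
  classical
  obtain ⟨C, hCdef⟩ : ∃ C, C = Subgroup.centralizer ({z} : Set G) := ⟨_, rfl⟩
  rw [← hCdef] at hC hsub ⊢
  obtain ⟨O, hO⟩ : ∃ O, O = pPrimeCore p C := ⟨_, rfl⟩
  rw [← hO] at hC ⊢
  haveI hON : O.Normal := hO ▸ Cores.pPrimeCore_normal p C
  have hOcop : (Nat.card O).Coprime p := hO ▸ Cores.coprime_card_pPrimeCore p
  have hyC : y ∈ C := by
    rw [hCdef, Subgroup.mem_centralizer_singleton_iff]
    exact hyz.eq
  have hzc : ∀ {x : G}, x ∈ C → Commute x z := fun {x} hx => by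
    rw [hCdef, Subgroup.mem_centralizer_singleton_iff] at hx
    exact hx
  let W : Subgroup G := O.map C.subtype ⊓ P.K
  have hWcop : (Nat.card W).Coprime p := P.cop.coprime_dvd_left (Subgroup.card_dvd_of_le inf_le_right)
  -- `[h, y] ∈ O`
  have key : ∀ h ∈ H, y⁻¹ * h * y * h⁻¹ ∈ W := by
    intro h hh
    have hK : y⁻¹ * h * y * h⁻¹ ∈ P.K := by
      have h1 := P.K.mul_mem (P.K.inv_mem hy) (P.H_norm hh hy)
      simpa [mul_assoc] using h1
    refine ⟨?_, hK⟩
    let a : C := ⟨h, hsub hh⟩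
    let b : C := ⟨y, hyC⟩
    have haH : a ∈ H.subgroupOf C := hh
    have hmem : b⁻¹ * a * b⁻¹⁻¹ ∈ H.subgroupOf C ⊔ O :=
      hC (Subgroup.normalClosure_normal.conj_mem a (Subgroup.subset_normalClosure haH) b⁻¹)
    obtain ⟨h', hh', o, ho, he⟩ := Subgroup.mem_sup_of_normal_right.mp hmem
    obtain ⟨f, hf⟩ : ∃ f, f = QuotientGroup.mk' O := ⟨_, rfl⟩
    have hfo : f o = 1 := by rw [hf]; exact (QuotientGroup.eq_one_iff o).mpr ho
    have e1 : f (b⁻¹ * a * b) * (f a)⁻¹ = f (h' * a⁻¹) := by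
      rw [inv_inv] at he
      rw [← he, map_mul, hfo, mul_one, map_mul, map_inv]
    have hc : b⁻¹ * a * b * a⁻¹ ∈ O := by
      obtain ⟨w, hw⟩ : ∃ w, w = b⁻¹ * a * b * a⁻¹ := ⟨_, rfl⟩
      have ew : f w = f (h' * a⁻¹) := by rw [hw, map_mul _ (b⁻¹ * a * b), map_inv, e1]
      have o1 : orderOf (f w) ∣ Nat.card P.K :=
        (orderOf_map_dvd f w).trans (by
          rw [← Subgroup.orderOf_coe w]
          exact Subgroup.orderOf_dvd_natCard P.K (by rw [hw]; exact hK))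
      have o2 : orderOf (f w) ∣ Nat.card H := by
        rw [ew]
        refine (orderOf_map_dvd f _).trans ?_
        rw [← Subgroup.orderOf_coe]
        exact Subgroup.orderOf_dvd_natCard H (H.mul_mem hh' (H.inv_mem hh))
      obtain ⟨n, hn⟩ := hH.exists_card_eq
      rw [hn] at o2
      have h1 := orderOf_eq_one_iff.mp (Nat.eq_one_of_dvd_coprimes (P.cop.symm.pow_left n) o2 o1)
      rw [← hw]
      rw [hf] at h1
      exact (QuotientGroup.eq_one_iff w).mp h1
    exact ⟨_, hc, rfl⟩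
  -- `H` fixes a point of the coset `y W`
  have hWH : ∀ h ∈ H, ∀ w ∈ W, h * w * h⁻¹ ∈ W := by
    rintro h hh w ⟨⟨o, ho, rfl⟩, hwK⟩
    exact ⟨⟨⟨h, hsub hh⟩ * o * ⟨h, hsub hh⟩⁻¹, hON.conj_mem o ho _, rfl⟩, P.H_norm hh hwK⟩
  let Y : Set G := {x | y⁻¹ * x ∈ W}
  let act : MulAction H Y :=
    { smul := fun h x => ⟨(h : G) * x * (h : G)⁻¹, by
        show y⁻¹ * ((h : G) * x * (h : G)⁻¹) ∈ W
        rw [show y⁻¹ * ((h : G) * x * (h : G)⁻¹) =
          (y⁻¹ * (h : G) * y * (h : G)⁻¹) * ((h : G) * (y⁻¹ * x) * (h : G)⁻¹) by group]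
        exact W.mul_mem (key h h.2) (hWH h h.2 _ x.2)⟩
      one_smul := fun x => Subtype.ext (show ((1 : H) : G) * (x : G) * ((1 : H) : G)⁻¹ = x by simp)
      mul_smul := fun a b x => Subtype.ext (show ((a * b : H) : G) * (x : G) * ((a * b : H) : G)⁻¹ =
        (a : G) * ((b : G) * x * (b : G)⁻¹) * (a : G)⁻¹ by simp [mul_assoc]) }
  letI := act
  have hcardY : Nat.card Y = Nat.card W := Nat.card_congr
    { toFun := fun x => ⟨y⁻¹ * x, x.2⟩
      invFun := fun w => ⟨y * w, by show y⁻¹ * (y * (w : G)) ∈ W; simp⟩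
      left_inv := fun x => Subtype.ext (by simp)
      right_inv := fun w => Subtype.ext (by simp) }
  have hmod := hH.card_modEq_card_fixedPoints Y
  have hne : Nat.card (MulAction.fixedPoints H Y) ≠ 0 := by
    intro h0
    rw [h0, hcardY, Nat.modEq_zero_iff_dvd] at hmod
    exact (Fact.out : p.Prime).coprime_iff_not_dvd.mp hWcop.symm hmod
  obtain ⟨x, hx⟩ := (Nat.card_ne_zero.mp hne).1
  have hxK : (x : G) ∈ P.K := by
    have := P.K.mul_mem hy x.2.2
    rwa [mul_inv_cancel_left] at this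
  have h1 : (x : G) = 1 := P.fixed _ hxK fun h hh => by
    have := congrArg Subtype.val (hx ⟨h, hh⟩)
    change h * (x : G) * h⁻¹ = x at this
    exact mul_inv_eq_iff_eq_mul.mp this
  have h2 := W.inv_mem x.2
  rw [h1] at h2
  exact (by simpa using h2 : y ∈ W).1

/-- An element of `K c` is conjugate to some `c y` with `y ∈ K` commuting with `c`. -/
theorem exists_conj_eq_aux (hH : IsPGroup p H) (hab : IsMulCommutative H) {c k : G} (hc : c ∈ H) (hk : k ∈ P.K) :
    ∃ x y : G, x ∈ H ⊔ H.map (MulAut.conj g).toMonoidHom ∧ y ∈ P.K ∧ Commute c y ∧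
      x * (k * c) * x⁻¹ = c * y := by
  obtain ⟨X, hX⟩ : ∃ X, X = H ⊔ P.K := ⟨_, rfl⟩
  have hn : H ≤ Subgroup.normalizer (P.K : Set G) := fun h hh =>
    Subgroup.mem_normalizer_fintype fun k hk => P.H_norm hh hk
  have hmemX : ∀ x ∈ X, ∃ k ∈ P.K, ∃ h ∈ H, k * h = x := by
    intro x hx
    rw [hX, sup_comm, ← SetLike.mem_coe, Subgroup.coe_mul_of_right_le_normalizer_left _ _ hn] at hx
    exact hx
  have hKX : P.K ≤ X := hX ▸ le_sup_right
  have hHX : H ≤ X := hX ▸ le_sup_left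
  haveI hKN : (P.K.subgroupOf X).Normal := Cores.subgroupOf_normal_of_le_normalizer
    (hX ▸ sup_le hn Subgroup.le_normalizer)
  obtain ⟨u, v, huv, hu, hv, hupow, hvcop⟩ := Transfer.exists_pPart_mul (p := p) (k * c)
  have hwX : k * c ∈ X := X.mul_mem (hKX hk) (hHX hc)
  have huX : u ∈ X := (Subgroup.zpowers_le.mpr hwX) hu
  have hvX : v ∈ X := (Subgroup.zpowers_le.mpr hwX) hv
  -- `v ∈ K`
  have hvK : v ∈ P.K := by
    obtain ⟨k', hk', h, hh, e⟩ := hmemX v hvX
    obtain ⟨f, hf⟩ : ∃ f, f = QuotientGroup.mk' (P.K.subgroupOf X) := ⟨_, rfl⟩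
    have e1 : f ⟨v, hvX⟩ = f ⟨h, hHX hh⟩ := by
      rw [show (⟨v, hvX⟩ : X) = ⟨k', hKX hk'⟩ * ⟨h, hHX hh⟩ from Subtype.ext e.symm, map_mul,
        show f ⟨k', hKX hk'⟩ = 1 by rw [hf]; exact (QuotientGroup.eq_one_iff _).mpr hk', one_mul]
    have o1 : orderOf (f ⟨v, hvX⟩) ∣ orderOf v :=
      (orderOf_map_dvd f _).trans (by rw [Subgroup.orderOf_mk])
    obtain ⟨n, hnn⟩ := hH.exists_card_eq
    have o2 : orderOf (f ⟨v, hvX⟩) ∣ p ^ n := by
      rw [e1]
      refine (orderOf_map_dvd f _).trans ?_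
      rw [Subgroup.orderOf_mk, ← hnn]
      exact Subgroup.orderOf_dvd_natCard H hh
    have h1 := orderOf_eq_one_iff.mp (Nat.eq_one_of_dvd_coprimes (hvcop.symm.pow_left n) o2 o1)
    rw [hf] at h1
    exact (QuotientGroup.eq_one_iff (⟨v, hvX⟩ : X)).mp h1
  -- conjugate `u` into `H`
  have hcardX : ∀ Q : Subgroup X, IsPGroup p Q → Nat.card Q ≤ Nat.card H := by
    intro Q hQ
    obtain ⟨f, hf⟩ : ∃ f, f = QuotientGroup.mk' (P.K.subgroupOf X) := ⟨_, rfl⟩
    have hker : Q ⊓ P.K.subgroupOf X = ⊥ := (Subgroup.eq_bot_iff_forall _).mpr fun x hx =>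
      eq_one_of_pGroup_of_coprime (H := Q) (K := P.K.subgroupOf X) hQ
        (by rw [Cores.card_subgroupOf hKX]; exact P.cop) hx.1 hx.2
    have hinj : Function.Injective (f.comp Q.subtype) := by
      rw [← MonoidHom.ker_eq_bot_iff, Subgroup.eq_bot_iff_forall]
      intro x hx
      rw [MonoidHom.mem_ker, MonoidHom.comp_apply, hf, QuotientGroup.mk'_apply,
        QuotientGroup.eq_one_iff] at hx
      exact Subtype.ext (Subgroup.mem_bot.mp (hker.le ⟨x.2, hx⟩))
    have hsurj : Function.Surjective (f.comp (Subgroup.inclusion hHX)) := by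
      intro q
      obtain ⟨⟨x, hx⟩, rfl⟩ : ∃ x, f x = q := by rw [hf]; exact QuotientGroup.mk'_surjective _ q
      obtain ⟨k', hk', h, hh, e⟩ := hmemX x hx
      refine ⟨⟨h, hh⟩, ?_⟩
      rw [show (⟨x, hx⟩ : X) = ⟨k', hKX hk'⟩ * ⟨h, hHX hh⟩ from Subtype.ext e.symm, map_mul,
        show f ⟨k', hKX hk'⟩ = 1 by rw [hf]; exact (QuotientGroup.eq_one_iff _).mpr hk', one_mul]
      rfl
    exact (Nat.card_le_card_of_injective _ hinj).trans (Nat.card_le_card_of_surjective _ hsurj)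
  obtain ⟨S, hS⟩ := (hH.comap_subtype (K := X)).exists_le_sylow
  have hSeq : (S : Subgroup X) = H.subgroupOf X :=
    (Subgroup.eq_of_le_of_card_ge hS ((hcardX _ S.isPGroup').trans_eq (Cores.card_subgroupOf hHX).symm)).symm
  have huP : IsPGroup p (Subgroup.zpowers (⟨u, huX⟩ : X)) := by
    obtain ⟨n, hn⟩ := hupow
    exact IsPGroup.of_card (n := n) (by rw [Nat.card_zpowers, Subgroup.orderOf_mk, hn])
  obtain ⟨S', hS'⟩ := huP.exists_le_sylow
  obtain ⟨x, hx⟩ := MulAction.exists_smul_eq X S' S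
  have hxu : (x : G) * u * (x : G)⁻¹ ∈ H := by
    have h1 : MulAut.conj x ⟨u, huX⟩ ∈ ((x • S' : Sylow p X) : Subgroup X) := by
      rw [Sylow.coe_subgroup_smul]
      exact Subgroup.smul_mem_pointwise_smul _ (MulAut.conj x) _ (hS' (Subgroup.mem_zpowers _))
    rw [hx, hSeq] at h1
    exact h1
  obtain ⟨k', hk', h, hh, e⟩ := hmemX _ x.2
  have hk'u : k'⁻¹ * ((x : G) * u * (x : G)⁻¹) * k' = h * u * h⁻¹ := by rw [← e]; group
  haveI : IsMulCommutative H := hab
  have hcomm : ∀ a ∈ H, ∀ b ∈ H, a * b = b * a := fun a ha b hb =>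
    congrArg Subtype.val (mul_comm' (⟨a, ha⟩ : H) ⟨b, hb⟩)
  obtain ⟨a, ha⟩ : ∃ a, a = (x : G) * u * (x : G)⁻¹ := ⟨_, rfl⟩
  rw [← ha] at hxu hk'u
  -- `h u h⁻¹ ∈ K c`
  have hac : a = c := by
    apply P.eq_of_mem hH hxu hc
    have huK : u * c⁻¹ ∈ P.K := by
      have e2 : u * c⁻¹ = k * (c * v⁻¹ * c⁻¹) := by
        rw [show u = k * c * v⁻¹ from eq_mul_inv_of_mul_eq huv.symm]; group
      rw [e2]
      exact P.K.mul_mem hk (P.H_norm hc (P.K.inv_mem hvK))
    have e3 : a * c⁻¹ = k' * (h * (u * c⁻¹) * h⁻¹) * (c * k'⁻¹ * c⁻¹) := by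
      have hch : c * h = h * c := hcomm c hc h hh
      have e4 : a = k' * (h * u * h⁻¹) * k'⁻¹ := by rw [← hk'u]; group
      rw [e4]
      have e5 : h * (u * c⁻¹) * h⁻¹ = h * u * h⁻¹ * c⁻¹ := by
        rw [show h * u * h⁻¹ * c⁻¹ = h * u * (c * h)⁻¹ by group, hch]; group
      rw [e5]; group
    rw [e3]
    exact P.K.mul_mem (P.K.mul_mem hk' (P.H_norm hh huK)) (P.H_norm hc (P.K.inv_mem hk'))
  refine ⟨x, (x : G) * v * (x : G)⁻¹, (sup_le le_sup_left P.le_sup) (hX.le x.2), ?_, ?_, ?_⟩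
  · rw [← e, show k' * h * v * (k' * h)⁻¹ = k' * (h * v * h⁻¹) * k'⁻¹ by group]
    exact P.K.mul_mem (P.K.mul_mem hk' (P.H_norm hh hvK)) (P.K.inv_mem hk')
  · rw [← hac, ha]
    have hcv : Commute u v := by
      obtain ⟨i, rfl⟩ := Subgroup.mem_zpowers_iff.mp hu
      obtain ⟨j, rfl⟩ := Subgroup.mem_zpowers_iff.mp hv
      exact Commute.zpow_zpow_self _ i j
    exact hcv.map (MulAut.conj (x : G)).toMonoidHom
  · rw [huv, ← hac, ha]; group

/-- An element of `K c` is conjugate to some `c y` with `y ∈ K` commuting with `c`. -/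
theorem exists_conj_eq (hH : IsPGroup p H) (hab : IsMulCommutative H) {c k : G} (hc : c ∈ H) (hk : k ∈ P.K) :
    ∃ x y : G, y ∈ P.K ∧ Commute c y ∧ x * (k * c) * x⁻¹ = c * y := by
  obtain ⟨x, y, -, h⟩ := P.exists_conj_eq_aux hH hab hc hk
  exact ⟨x, y, h⟩

/-- As `exists_conj_eq`, with the conjugating element in `K`. -/
theorem exists_conj_eq' (hH : IsPGroup p H) (hab : IsMulCommutative H) {c k : G} (hc : c ∈ H) (hk : k ∈ P.K) :
    ∃ x y : G, x ∈ P.K ∧ y ∈ P.K ∧ Commute c y ∧ x * (k * c) * x⁻¹ = c * y := by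
  obtain ⟨x, y, hxX, hy, hcy, he⟩ := P.exists_conj_eq_aux hH hab hc hk
  haveI : IsMulCommutative H := hab
  obtain ⟨h, hh, hxh⟩ := P.split x hxX
  have hch : Commute c h := congrArg Subtype.val (mul_comm' (⟨c, hc⟩ : H) ⟨h, hh⟩)
  refine ⟨h⁻¹ * x, h⁻¹ * y * h, ?_, ?_, ?_, ?_⟩
  · have := P.H_norm (H.inv_mem hh) hxh
    simpa [mul_assoc] using this
  · have := P.H_norm (H.inv_mem hh) hy
    simpa using this
  · exact (hch.inv_right.mul_right hcy).mul_right hch
  · rw [show h⁻¹ * x * (k * c) * (h⁻¹ * x)⁻¹ = h⁻¹ * (x * (k * c) * x⁻¹) * h by group, he,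
      ← mul_assoc h⁻¹ c y, ← hch.inv_right.eq]
    group

end Pair

end Cfsg.Agent.ExtremeClosed
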